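import Cfsg.Agent.Lib.Fusion.FamilySaturation.ExtendLemma

/-!
Saturation from a family of subgroups.
-/

set_option autoImplicit false
set_option linter.unusedSectionVars false
set_option linter.style.haveILetI false

universe u

namespace Cfsg.FusionSystem.Family

variable {Ω : Type u} [Group Ω] {S : Subgroup Ω} {F : FusionSystem S} {p : ℕ} [Finite S] [Fact p.Prime]
  {ℋ : Set (Subgroup Ω)} {P₀ : Subgroup Ω}

/-- The maps of `F` whose restrictions to the class of `P₀` are linked. -/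
def linkedSystem (hS : IsPGroup p S) (P₀ : Subgroup Ω) (hP₀ : P₀ ≠ S) (F : FusionSystem S) : FusionSystem S where
  Hom P := {φ | φ ∈ F.Hom P ∧ (F.IsConj P₀ P → ∃ f, Linked F P φ.range f ∧ ∀ x : P, φ x = f x)}
  le_of_mem h := F.le_of_mem h.1
  injective_of_mem h := F.injective_of_mem h.1
  conj_mem := by
    intro P g hP hg
    refine ⟨F.conj_mem hP hg, fun hconj => ⟨fun x => g * x * g⁻¹, ?_, fun x => rfl⟩⟩
    have hne : P ≠ S := fun e => hP₀ (Subgroup.eq_of_le_of_card_ge hconj.le_left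
      (by rw [hconj.card_eq, e]))
    have hh := isIso_conj (E := F) (normalizerIn_le (S := S) (P := P)) hg
    obtain ⟨B, hB, -, hBi⟩ := exists_img hh (le_normalizerIn hP)
    rw [range_eq hBi (conjHom P g) fun x => rfl]
    exact .step (lt_normalizerIn hS (lt_of_le_of_ne hP hne)) inf_le_right hh hB
  comp_mem := by
    intro P Q φ ψ hφ hψ h
    refine ⟨F.comp_mem hφ.1 hψ.1 h, fun hconj => ?_⟩
    obtain ⟨f, hf, hfe⟩ := hφ.2 hconj
    have hr : φ.range ≤ Q := by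
      rintro _ ⟨x, rfl⟩
      exact h x
    rcases eq_or_lt_of_le hr with e | hlt
    · subst e
      obtain ⟨g, hg, hge⟩ := hψ.2 (hconj.trans ⟨φ, hφ.1, rfl⟩)
      have he : ∀ x : P, ψ.comp (φ.codRestrict _ h) x = g (f x) := fun x => by
        show ψ ⟨φ x, _⟩ = _
        rw [hge, ← hfe]
      refine ⟨fun x => g (f x), ?_, he⟩
      rw [range_eq (hf.comp hg).isIso _ he]
      exact hf.comp hg
    · obtain ⟨B, hB, -⟩ := Linked.of_lt hS (isIso_funOf hψ.1) hlt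
      have he : ∀ x : P, ψ.comp (φ.codRestrict _ h) x = funOf ψ (f x) := fun x => by
        show ψ ⟨φ x, _⟩ = _
        rw [funOf_apply ψ ⟨φ x, h x⟩, ← hfe]
      refine ⟨fun x => funOf ψ (f x), ?_, he⟩
      rw [range_eq (hf.comp hB).isIso _ he]
      exact hf.comp hB
  inv_mem := by
    intro P φ hφ
    obtain ⟨ψ, hψ, hψe⟩ := F.inv_mem hφ.1
    refine ⟨ψ, ⟨hψ, fun hconj => ?_⟩, hψe⟩
    obtain ⟨f, hf, hfe⟩ := hφ.2 (hconj.trans (IsConj.symm ⟨φ, hφ.1, rfl⟩))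
    obtain ⟨g, hg, hgl⟩ := hf.symm
    have he : ∀ y : φ.range, ψ y = g y := by
      rintro ⟨_, x, rfl⟩
      rw [hψe x]
      show (x : Ω) = g (φ x)
      rw [hfe x, hgl x x.2]
    refine ⟨g, ?_, he⟩
    rw [range_eq hg.isIso ψ he]
    exact hg

theorem linked_of_mem (hS : IsPGroup p S) (hconjH : ∀ P ∈ ℋ, ∀ Q, F.IsConj P Q → Q ∈ ℋ)
    (hgen : ∀ E : FusionSystem S, (∀ P ∈ ℋ, F.Hom P ⊆ E.Hom P) → F ≤ E) (hP₀ : P₀ ≠ S) (hP₀H : P₀ ∉ ℋ)
    {A B : Subgroup Ω} (hA : F.IsConj P₀ A) {f : Ω → Ω} (hf : F.IsIso A B f) : Linked F A B f := by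
  have hle := hgen (linkedSystem hS P₀ hP₀ F) fun P hP φ hφ =>
    ⟨hφ, fun hc => absurd (hconjH P hP P₀ hc.symm) hP₀H⟩
  obtain ⟨φ, hφ, hr, hφe⟩ := hf
  obtain ⟨g, hg, hge⟩ := (hle A hφ).2 hA
  subst hr
  exact hg.congr fun x hx => (hφe ⟨x, hx⟩).symm.trans (hge ⟨x, hx⟩)

theorem ext_linked (hS : IsPGroup p S) (hsat : ∀ P ∈ ℋ, ∃ Q, F.IsConj P Q ∧ F.IsFullyAutomized p Q ∧ F.IsReceptive Q)
    (hup : ∀ P', F.IsConj P₀ P' → ∀ R, P' < R → R ≤ S → R ∈ ℋ)
    {A B : Subgroup Ω} {f : Ω → Ω} (h : Linked F A B f) :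
    ∀ (rA rB : Ω → Ω) (KA KB tA tB : Subgroup Ω), F.IsConj P₀ A →
      F.IsIso (normalizerIn S A) KA rA → Img rA A tA → Term F tA →
      F.IsIso (normalizerIn S B) KB rB → Img rB B tB → Term F tB →
      ∃ g M, F.IsIso (nOp F p tA) M g ∧ M ≤ nOp F p tB ∧ ∀ x ∈ A, g (rA x) = rB (f x) := by
  induction h with
  | @step A B K K' f hlt hKn hf hB =>
    intro rA rB KA KB tA tB hA hrA hAt htA hrB hBt htB
    have hKS := hf.le_left
    have hKNA : K ≤ normalizerIn S A := fun z hz => ⟨hKS hz, hKn hz⟩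
    have hK'NB : K' ≤ normalizerIn S B := image_le_normalizerIn hf hlt.le hKn hB
    obtain ⟨KK, hKK, hKKle, hiso⟩ := exists_img hrA hKNA
    obtain ⟨ri, hri, hril, -⟩ := hiso.symm
    obtain ⟨N, hN, -⟩ := comp_le (hri.comp hf) hrB hK'NB
    have him : Img (fun z => rB (f (ri z))) tA tB := ((img_symm hiso hlt.le hAt hril).comp hB).comp hBt
    have hAS : A ≤ S := hlt.le.trans hKS
    have hKAN : KA ≤ normalizerIn S tA := image_le_normalizerIn hrA (le_normalizerIn hAS) inf_le_right hAt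
    have htlt : tA < KK := by
      refine lt_of_le_of_ne (hAt.mono hKK hlt.le) fun e => ?_
      haveI := finite_of_le hKS
      have h1 : Nat.card K = Nat.card A := by
        rw [hiso.card_eq, ← e]
        exact ((hiso.restrict' hlt.le hAt).card_eq).symm
      exact absurd h1 (card_lt_of_lt hlt).ne'
    obtain ⟨g, M, hg, hge⟩ := ext_aux hS hsat hup (Nat.card S) tA tB KK N _
      (hA.trans (isConj_of_img hiso hlt.le hAt)) htA htB hN htlt (hKKle.trans hKAN) him le_add_self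
    refine ⟨g, M, hg, ext_le hS htA.1 hg (him.congr hge), fun x hx => ?_⟩
    rw [hge _ (hAt.mem hx)]
    show rB (f (ri (rA x))) = rB (f x)
    rw [hril x (hlt.le hx)]
  | @comp A B C f g h1 h2 ih1 ih2 =>
    intro rA rC KA KC tA tC hA hrA hAt htA hrC hCt htC
    obtain ⟨rB, KB, tB, hrB, hBt, htB⟩ := exists_term (F := F) h1.isIso.le_right
    obtain ⟨g₁, M₁, hg₁, hM₁, he₁⟩ := ih1 rA rB KA KB tA tB hA hrA hAt htA hrB hBt htB
    obtain ⟨g₂, M₂, hg₂, hM₂, he₂⟩ := ih2 rB rC KB KC tB tC (hA.trans h1.isIso.isConj) hrB hBt htB hrC hCt htC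
    obtain ⟨M, hM, hMle⟩ := comp_le hg₁ hg₂ hM₁
    exact ⟨_, M, hM, hMle.trans hM₂, fun x hx => by
      show g₂ (g₁ (rA x)) = rC (g (f x))
      rw [he₁ x hx, he₂ _ (h1.isIso.mem hx)]⟩
  | @congr A B f g h1 he ih =>
    intro rA rB KA KB tA tB hA hrA hAt htA hrB hBt htB
    obtain ⟨e, M, h, hM, hh⟩ := ih rA rB KA KB tA tB hA hrA hAt htA hrB hBt htB
    exact ⟨e, M, h, hM, fun x hx => by rw [hh x hx, he x hx]⟩

/-- Every map between terminal members extends to `N₀`. -/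
theorem ext_all (hS : IsPGroup p S) (hconjH : ∀ P ∈ ℋ, ∀ Q, F.IsConj P Q → Q ∈ ℋ)
    (hgen : ∀ E : FusionSystem S, (∀ P ∈ ℋ, F.Hom P ⊆ E.Hom P) → F ≤ E) (hP₀ : P₀ ≠ S) (hP₀H : P₀ ∉ ℋ)
    (hsat : ∀ P ∈ ℋ, ∃ Q, F.IsConj P Q ∧ F.IsFullyAutomized p Q ∧ F.IsReceptive Q)
    (hup : ∀ P', F.IsConj P₀ P' → ∀ R, P' < R → R ≤ S → R ∈ ℋ)
    {a b : Subgroup Ω} {f : Ω → Ω} (ha0 : F.IsConj P₀ a) (ha : Term F a) (hb : Term F b) (hf : F.IsIso a b f) :
    ∃ g M, F.IsIso (nOp F p a) M g ∧ M ≤ nOp F p b ∧ ∀ x ∈ a, g x = f x :=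
  ext_linked hS hsat hup (linked_of_mem hS hconjH hgen hP₀ hP₀H ha0 hf) _ _ _ _ a b ha0
    (IsIso.refl F normalizerIn_le) (img_id a) ha (IsIso.refl F normalizerIn_le) (img_id b) hb

/-- The class has a fully automised receptive member. -/
theorem exists_good (hS : IsPGroup p S) (hconjH : ∀ P ∈ ℋ, ∀ Q, F.IsConj P Q → Q ∈ ℋ)
    (hgen : ∀ E : FusionSystem S, (∀ P ∈ ℋ, F.Hom P ⊆ E.Hom P) → F ≤ E) (hP₀ : P₀ ≠ S) (hP₀H : P₀ ∉ ℋ)
    (hsat : ∀ P ∈ ℋ, ∃ Q, F.IsConj P Q ∧ F.IsFullyAutomized p Q ∧ F.IsReceptive Q)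
    (hup : ∀ P', F.IsConj P₀ P' → ∀ R, P' < R → R ≤ S → R ∈ ℋ)
    (hstar : ∃ Q, F.IsConj P₀ Q ∧ Q < nOp F p Q) :
    ∃ c, F.IsConj P₀ c ∧ F.IsFullyAutomized p c ∧ F.IsReceptive c := by
  obtain ⟨Q, hQ0, hQlt⟩ := hstar
  have hQS := hQ0.le_right
  have hQN := le_normalizerIn (S := S) hQS
  obtain ⟨r, Kr, a, hr, hQa, hta⟩ := exists_term (F := F) hQS
  have ha0 : F.IsConj P₀ a := hQ0.trans (isConj_of_img hr hQN hQa)
  have haS := hta.1
  obtain ⟨n, hn, hnQ⟩ := SetLike.exists_of_lt hQlt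
  have halt : a < nOp F p a := by
    refine lt_of_le_of_ne (le_nOp hS haS) fun e => hnQ ?_
    have h := nOp_apply hr hQN hQa (nOp_le Q hn) hn
    rw [← e] at h
    obtain ⟨z, hz, hze⟩ := (hQa _).mp h
    exact hr.inj (hQN hz) (nOp_le Q hn) hze ▸ hz
  obtain ⟨R, hNR, hR1, hR2⟩ := hsat _ (hup a ha0 _ halt (nOp_le_S a))
  obtain ⟨χ, M, hχ, hMR, hχR⟩ := exists_normalizer_iso hS hR1 hR2 hNR
  have hNN : normalizerIn S a ≤ normalizerIn S (nOp F p a) := fun z hz =>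
    ⟨hz.1, normalizerIn_le_normalizer_nOp haS hz⟩
  obtain ⟨Nx, -, hNxM, hχa⟩ := exists_img hχ hNN
  have haN := le_normalizerIn (S := S) haS
  obtain ⟨x, hax, -, -⟩ := exists_img hχa haN
  obtain ⟨hNx, htx⟩ := hta.rise hχa hax
  have hnx : nOp F p x = R := hta.nOp_eq hχa hax hχR
  have hxR : x ≤ R := hax.mono hχR (le_nOp hS haS)
  obtain ⟨δ, c, hδ, hxc, hcR, hW⟩ := exists_sylow_point hS hR1 hxR
  obtain ⟨g, U', hg, hU'R, hU'c, hgR, hgxc, -⟩ :=
    exists_extension_free hS hR2 hδ hxR hxc hW (U := normalizerIn S x) (hnx ▸ nOp_le x)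
      (hNx ▸ hNxM.trans hMR) inf_le_right
  obtain ⟨hU', htc⟩ := htx.rise hg hgxc
  have hnc : nOp F p c = R := htx.nOp_eq hg hgxc (hnx.symm ▸ hgR)
  have hx0 : F.IsConj P₀ x := ha0.trans (isConj_of_img hχa haN hax)
  have hc0 : F.IsConj P₀ c := hx0.trans (isConj_of_img hg (le_normalizerIn htx.1) hgxc)
  have hcS := htc.1
  have hRS := hR2.1
  have hNcR : normalizerIn S c ≤ normalizerIn S R := hU' ▸ hU'R
  haveI := finite_of_le hRS
  haveI := finite_of_le hcS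
  haveI := finite_mulAut_of_le hcS
  refine ⟨c, hc0, ⟨hcS, ?_⟩, hcS, fun P φ hφ hφr => ?_⟩
  · -- fully automised
    haveI := finite_autGroup (F := F) (P := c) hcS
    have hlift : ∀ α ∈ F.autGroup c, ∃ β ∈ sGroup F R c,
        ∀ z : c, ((α z : c) : Ω) = (((β : MulAut R) ⟨z, hcR z.2⟩ : R) : Ω) := by
      intro α hα
      obtain ⟨f, hf, hfe⟩ := isIso_of_aut hcS hα
      obtain ⟨h, Mh, hh, hMh, hhe⟩ := ext_all hS hconjH hgen hP₀ hP₀H hsat hup hc0 htc htc hf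
      rw [hnc] at hh hMh
      rw [hh.eq_of_le hRS hMh le_rfl] at hh
      obtain ⟨β, hβ, hβe⟩ := hh.toAut
      have hhc : Img h c c := (img_of_isIso hf).congr hhe
      refine ⟨β, Subgroup.mem_inf.mpr ⟨hβ, fun y => ?_⟩, fun z => ?_⟩
      · rw [hβe]
        constructor
        · intro hy
          obtain ⟨z, hz, e⟩ := (hhc _).mp hy
          rwa [← hh.inj (hcR hz) y.2 e]
        · exact hhc.mem
      · rw [hβe, hhe z z.2, hfe]
    have hsle : sGroup F R c ≤ stabIn R c := inf_le_right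
    obtain ⟨res, hres⟩ : ∃ res : sGroup F R c →* MulAut c,
        ∀ (β : sGroup F R c) (z : c), ((res β z : c) : Ω) = (((β : MulAut R) ⟨z, hcR z.2⟩ : R) : Ω) :=
      ⟨(restrictTo R c hcR).comp (Subgroup.inclusion hsle), fun β z => restrictTo_apply hcR _ z⟩
    have hmem : ∀ β, res β ∈ F.autGroup c := by
      intro β
      obtain ⟨k, hk, hke⟩ := isIso_of_aut hRS (Subgroup.mem_inf.mp β.2).1
      obtain ⟨ψ, hψ, -, hψe⟩ := id hk
      exact F.mem_autGroup_of_map (F.restrict_mem hψ hcR) fun z => by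
        rw [hres, hke]
        exact (hψe (Subgroup.inclusion hcR z)).symm
    let res' : sGroup F R c →* F.autGroup c := res.codRestrict _ hmem
    have hsurj : Function.Surjective res' := by
      rintro ⟨α, hα⟩
      obtain ⟨β, hβ, hβe⟩ := hlift α hα
      refine ⟨⟨β, hβ⟩, Subtype.ext (MulEquiv.ext fun z => Subtype.ext ?_)⟩
      show ((res ⟨β, hβ⟩ z : c) : Ω) = _
      rw [hres, hβe]
    let T := (autInducedBy S c).subgroupOf (F.autGroup c)
    have hTp : IsPGroup p T :=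
      (isPGroup_autInducedBy hS).comap_of_injective _ (Subgroup.subtype_injective _)
    have hWT : ((wGroup S R c).subgroupOf (sGroup F R c)).map res' ≤ T := by
      rintro _ ⟨w, hw, rfl⟩
      obtain ⟨hw1, hw2⟩ := Subgroup.mem_inf.mp hw
      obtain ⟨s, hs, hsn, hse⟩ := mem_autInducedBy_iff.mp hw1
      refine mem_autInducedBy_iff.mpr ⟨s, hs, Subgroup.mem_normalizer_fintype fun y hy => ?_, fun z => ?_⟩
      · have h := (hw2 ⟨y, hcR hy⟩).mpr hy
        rwa [hse] at h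
      · show ((res w z : c) : Ω) = _
        rw [hres]
        exact hse _
    have hTi : ¬ p ∣ T.index := fun h => hW
      ((h.trans (Subgroup.index_dvd_of_le hWT)).trans (Subgroup.index_map_dvd _ hsurj))
    exact ⟨hTp.toSylow hTi, rfl⟩
  · -- receptive
    subst hφr
    have hPS := F.source_le hφ
    have hPN := le_normalizerIn (S := S) hPS
    have hφS : ∀ z, φ z ∈ S := F.apply_mem hφ
    obtain ⟨r, Kr, t, hr, hPt, htt⟩ := exists_term (F := F) hPS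
    have hKrt : Kr ≤ normalizerIn S t := image_le_normalizerIn hr hPN inf_le_right hPt
    have hrP := hr.restrict' hPN hPt
    obtain ⟨ri, hri, hril, -⟩ := hrP.symm
    have hφi := isIso_funOf hφ
    have ht0 : F.IsConj P₀ t := hc0.trans (hrP.isConj.symm.trans hφi.isConj).symm
    have hft := hri.comp hφi
    obtain ⟨h, Mh, hh, hMh, hhe⟩ := ext_all hS hconjH hgen hP₀ hP₀H hsat hup ht0 htt htc hft
    obtain ⟨fi, hfi, -, -⟩ := hft.symm
    obtain ⟨h', Mh', hh', hMh', -⟩ := ext_all hS hconjH hgen hP₀ hP₀H hsat hup hc0 htc htt hfi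
    rw [hnc] at hMh hh'
    haveI := finite_of_le (nOp_le_S (F := F) (p := p) t)
    have hcard : Nat.card R ≤ Nat.card (nOp F p t) := hh'.card_eq.trans_le (Subgroup.card_le_of_le hMh')
    rw [hh.eq_of_le hRS hMh hcard] at hh
    have htN : t ≤ nOp F p t := le_nOp hS htt.1
    have htc' : Img h t φ.range := (img_of_isIso hft).congr hhe
    obtain ⟨g', U'', hg', -, hU''c, -, hg'tc, -⟩ :=
      exists_extension_free hS hR2 hh htN htc' hW (U := normalizerIn S t) (nOp_le t)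
        (fun z hz => ⟨hz.1, normalizerIn_le_normalizer_nOp htt.1 hz⟩) inf_le_right
    have hU''N : U'' ≤ normalizerIn S φ.range := fun z hz => ⟨hg'.le_right hz, hU''c hz⟩
    obtain ⟨Kρ, hρ, hKρ⟩ := comp_le hr hg' hKrt
    have hρc := hPt.comp hg'tc
    have hρP := hρ.restrict' hPN hρc
    obtain ⟨ρi, hρi, hρil, -⟩ := hρP.symm
    obtain ⟨e, Me, he, hMe, hee⟩ :=
      ext_all hS hconjH hgen hP₀ hP₀H hsat hup hc0 htc htc (hρi.comp hφi)
    rw [hnc] at he hMe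
    rw [he.eq_of_le hRS hMe le_rfl] at he
    have hec : Img e φ.range φ.range := (img_of_isIso (hρi.comp hφi)).congr hee
    have hEN : extender S P φ ≤ normalizerIn S P := extender_le_normalizerIn hφS
    obtain ⟨E', hE', hE'K, hρE⟩ := exists_img hρ hEN
    have hE'c : E' ≤ normalizerIn S φ.range := hE'K.trans (hKρ.trans hU''N)
    have hcR' : φ.range ≤ R := hcR
    obtain ⟨G, UG, hG, -, -, -, hGc, -, hGe⟩ :=
      exists_extension_exact hS hR2 he hcR' hec hW (U := R ⊔ E') le_sup_left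
        (sup_le (le_normalizerIn hRS) (hE'c.trans hNcR))
        (sup_le ((hnc ▸ nOp_le φ.range : R ≤ normalizerIn S φ.range).trans inf_le_right)
          (hE'c.trans inf_le_right)) (by
      let T : Subgroup Ω :=
        { carrier := {u | u ∈ normalizerIn S φ.range ∧ ∃ s, s ∈ normalizerIn S R ∧ s ∈ normalizerIn S φ.range ∧
            ∀ z ∈ φ.range, e (u * z * u⁻¹) = s * e z * s⁻¹}
          one_mem' := ⟨one_mem _, 1, one_mem _, one_mem _, fun z _ => by simp⟩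
          mul_mem' := by
            rintro u v ⟨hu, s, hs, hs', hse⟩ ⟨hv, w, hw, hw', hwe⟩
            refine ⟨mul_mem hu hv, s * w, mul_mem hs hw, mul_mem hs' hw', fun z hz => ?_⟩
            rw [show u * v * z * (u * v)⁻¹ = u * (v * z * v⁻¹) * u⁻¹ by group,
              hse _ ((Subgroup.mem_normalizer_iff.mp hv.2 z).mp hz), hwe z hz]
            group
          inv_mem' := by
            rintro u ⟨hu, s, hs, hs', hse⟩
            refine ⟨InvMemClass.inv_mem hu, s⁻¹, InvMemClass.inv_mem hs, InvMemClass.inv_mem hs',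
              fun z hz => ?_⟩
            have hz' : u⁻¹ * z * u⁻¹⁻¹ ∈ φ.range :=
              (Subgroup.mem_normalizer_iff.mp (InvMemClass.inv_mem hu.2) z).mp hz
            have hk := hse _ hz'
            rw [show u * (u⁻¹ * z * u⁻¹⁻¹) * u⁻¹ = z by group] at hk
            rw [hk]
            group }
      have hRc : R ≤ normalizerIn S φ.range := hnc ▸ nOp_le φ.range
      have hUT : R ⊔ E' ≤ T := by
        refine sup_le (fun u hu => ⟨hRc hu, e u, le_normalizerIn hRS (he.mem hu), hRc (he.mem hu),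
          fun z hz => he.apply_conj hu (hcR' hz)⟩) fun u hu => ?_
        refine ⟨hE'c hu, ?_⟩
        obtain ⟨v, hv, rfl⟩ := (hE' u).mp hu
        obtain ⟨hvS, hvn, k, hk, hke⟩ := (mem_extender_iff hφS).mp hv
        have hkn : k ∈ normalizerIn S φ.range := by
          refine ⟨hk, Subgroup.mem_normalizer_fintype fun y hy => ?_⟩
          obtain ⟨z, rfl⟩ := hy
          exact ⟨⟨v * z * v⁻¹, (Subgroup.mem_normalizer_iff.mp hvn z).mp z.2⟩,
            hke z ((Subgroup.mem_normalizer_iff.mp hvn z).mp z.2)⟩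
        refine ⟨k, hNcR hkn, hkn, fun z hz => ?_⟩
        obtain ⟨w, hw, rfl⟩ := (hρc z).mp hz
        have hw' : v * w * v⁻¹ ∈ P := (Subgroup.mem_normalizer_iff.mp hvn w).mp hw
        have hvN : v ∈ normalizerIn S P := ⟨hvS, hvn⟩
        have e1 := hρ.apply_conj hvN (hPN hw)
        rw [← e1, hee _ (hρc.mem hw'), hee _ (hρc.mem hw)]
        show funOf φ (ρi (g' (r (v * w * v⁻¹)))) = k * funOf φ (ρi (g' (r w))) * k⁻¹
        rw [hρil _ hw', hρil _ hw, ← funOf_apply φ ⟨_, hw'⟩, ← funOf_apply φ ⟨w, hw⟩]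
        exact hke ⟨w, hw⟩ hw'
      exact fun u hu => (hUT hu).2)
    obtain ⟨Z, hZ, -⟩ := comp_le hρE hG le_sup_right
    obtain ⟨ψ, hψ, -, hψe⟩ := hZ
    refine ⟨ψ, hψ, fun z hzP hzN => ?_⟩
    rw [hψe]
    show G (g' (r z)) = _
    rw [hGe _ (hρc.mem hzP), hee _ (hρc.mem hzP)]
    show funOf φ (ρi (g' (r z))) = _
    rw [hρil z hzP]
    exact (funOf_apply φ ⟨z, hzP⟩).symm

theorem exists_op_mover (hS : IsPGroup p S) {P₀ : Subgroup Ω} (hP₀ : P₀ ≤ S)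
    (hstar : F.IsCentric P₀ → ∃ Q, F.IsConj P₀ Q ∧ ¬ (autInducedBy S Q ⊓ opAut F p Q ≤ Inn Q)) :
    ∃ Q, F.IsConj P₀ Q ∧ Q < nOp F p Q := by
  by_cases hc : F.IsCentric P₀
  · obtain ⟨Q, hQ, hQn⟩ := hstar hc
    obtain ⟨α, hα, hαI⟩ := SetLike.not_le_iff_exists.mp hQn
    obtain ⟨hα1, hα2⟩ := Subgroup.mem_inf.mp hα
    obtain ⟨g, hg, hgn, hge⟩ := mem_autInducedBy_iff.mp hα1
    refine ⟨Q, hQ, lt_of_le_of_ne (le_nOp hS hQ.le_right) fun e => hαI ?_⟩
    have hgQ : g ∈ Q := e.ge ⟨⟨hg, hgn⟩, α, hα2, hge⟩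
    rw [inn_eq_autInducedBy]
    exact mem_autInducedBy_iff.mpr ⟨g, hgQ, hgn, hge⟩
  · obtain ⟨Q, hQ, hQn⟩ : ∃ Q, F.IsConj P₀ Q ∧ ¬ centralizerIn S Q ≤ Q := by
      by_contra h
      push Not at h
      exact hc ⟨hP₀, h⟩
    refine ⟨Q, hQ, lt_of_le_of_ne (le_nOp hS hQ.le_right) fun e => hQn fun g hg => e.ge ?_⟩
    refine ⟨centralizerIn_le_normalizerIn hg, 1, one_mem _, fun x => ?_⟩
    show (x : Ω) = _
    rw [← Subgroup.mem_centralizer_iff.mp hg.2 x x.2]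
    group

/-- A system generated by a family on which it is saturated is saturated. -/
theorem isSaturated_of_family (hS : IsPGroup p S) (ℋ : Set (Subgroup Ω))
    (hconjH : ∀ P ∈ ℋ, ∀ Q, F.IsConj P Q → Q ∈ ℋ)
    (hsat : ∀ P ∈ ℋ, ∃ Q, F.IsConj P Q ∧ F.IsFullyAutomized p Q ∧ F.IsReceptive Q)
    (hgen : ∀ E : FusionSystem S, (∀ P ∈ ℋ, F.Hom P ⊆ E.Hom P) → F ≤ E)
    (hstar : ∀ P, F.IsCentric P → P ∉ ℋ →
      ∃ Q, F.IsConj P Q ∧ ¬ (autInducedBy S Q ⊓ opAut F p Q ≤ Inn Q)) : F.IsSaturated p := by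
  suffices H : ∀ (n : ℕ) (ℋ : Set (Subgroup Ω)), ({P | P ≤ S ∧ P ∉ ℋ}).ncard = n →
      (∀ P ∈ ℋ, ∀ Q, F.IsConj P Q → Q ∈ ℋ) →
      (∀ P ∈ ℋ, ∃ Q, F.IsConj P Q ∧ F.IsFullyAutomized p Q ∧ F.IsReceptive Q) →
      (∀ E : FusionSystem S, (∀ P ∈ ℋ, F.Hom P ⊆ E.Hom P) → F ≤ E) →
      (∀ P, F.IsCentric P → P ∉ ℋ → ∃ Q, F.IsConj P Q ∧ ¬ (autInducedBy S Q ⊓ opAut F p Q ≤ Inn Q)) →
      F.IsSaturated p from H _ ℋ rfl hconjH hsat hgen hstar
  intro n
  induction n using Nat.strong_induction_on with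
  | _ n ih =>
  intro ℋ hn hconjH hsat hgen hstar
  have hfin : {P : Subgroup Ω | P ≤ S ∧ P ∉ ℋ}.Finite := (finite_setOf_le S).subset fun P hP => hP.1
  by_cases hne : {P : Subgroup Ω | P ≤ S ∧ P ∉ ℋ}.Nonempty
  swap
  · intro P hP
    exact hsat P (by
      by_contra h
      exact hne ⟨P, hP, h⟩)
  obtain ⟨P₀, ⟨hP₀S, hP₀H⟩, hmax⟩ := Set.exists_max_image {P : Subgroup Ω | P ≤ S ∧ P ∉ ℋ} (fun P => Nat.card P) hfin hne
  have hup : ∀ P', F.IsConj P₀ P' → ∀ R, P' < R → R ≤ S → R ∈ ℋ := by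
    intro P' hP' R hR hRS
    by_contra h
    haveI := finite_of_le hRS
    have := hmax R ⟨hRS, h⟩
    rw [hP'.card_eq] at this
    exact absurd (card_lt_of_lt hR) (not_lt.mpr this)
  have hP₀ : P₀ ≠ S := by
    rintro rfl
    obtain ⟨Q, hQ, hQn⟩ := hstar P₀ isCentric_self hP₀H
    obtain rfl : Q = P₀ := Subgroup.eq_of_le_of_card_ge hQ.le_right hQ.card_eq.le
    exact hQn (inf_le_left.trans (inn_eq_autInducedBy Q).ge)
  obtain ⟨c, hc0, hc1, hc2⟩ := exists_good hS hconjH hgen hP₀ hP₀H hsat hup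
    (exists_op_mover hS hP₀S fun hc => hstar P₀ hc hP₀H)
  refine ih _ ?_ (ℋ ∪ {Q | F.IsConj P₀ Q}) rfl ?_ ?_ (fun E hE => hgen E fun P hP => hE P (Or.inl hP))
    (fun P hP hPH => hstar P hP fun h => hPH (Or.inl h))
  · rw [← hn]
    refine Set.ncard_lt_ncard ⟨fun P hP => ⟨hP.1, fun h => hP.2 (Or.inl h)⟩, fun hsub => ?_⟩ hfin
    exact (hsub ⟨hP₀S, hP₀H⟩).2 (Or.inr (F.isConj_refl hP₀S))
  · rintro P (hP | hP) Q hQ
    · exact Or.inl (hconjH P hP Q hQ)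
    · exact Or.inr (hP.trans hQ)
  · rintro P (hP | hP)
    · exact hsat P hP
    · exact ⟨c, hP.symm.trans hc0, hc1, hc2⟩

end Cfsg.FusionSystem.Family
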