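import Cfsg.Agent.Lib.Fusion.FamilySaturation.Inner

/-!
The extension lemma for maps between terminal members of a class.
-/

set_option autoImplicit false
set_option linter.unusedSectionVars false
set_option linter.style.haveILetI false

universe u

namespace Cfsg.FusionSystem.Family

variable {Ω : Type u} [Group Ω] {S : Subgroup Ω} {F : FusionSystem S} {p : ℕ} [Finite S] [Fact p.Prime]

theorem exists_normalizer_iso (hS : IsPGroup p S) {K R : Subgroup Ω} (h₁ : F.IsFullyAutomized p R)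
    (h₂ : F.IsReceptive R) (hKR : F.IsConj K R) :
    ∃ χ M, F.IsIso (normalizerIn S K) M χ ∧ M ≤ normalizerIn S R ∧ Img χ K R := by
  obtain ⟨φ, -, hr, ψ, hψ, hψN, he⟩ := exists_normalizer_map hS h₁ h₂ hKR
  have hK : K ≤ normalizerIn S K := le_normalizerIn hKR.le_left
  refine ⟨funOf ψ, ψ.range, isIso_funOf hψ, ?_, fun y => ⟨fun hy => ?_, ?_⟩⟩
  · rintro _ ⟨x, rfl⟩
    exact hψN x
  · obtain ⟨x, rfl⟩ := hr.ge hy
    exact ⟨x, x.2, by rw [← funOf_apply ψ ⟨x, hK x.2⟩, he]⟩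
  · rintro ⟨x, hx, rfl⟩
    rw [← funOf_apply ψ ⟨x, hK hx⟩, he ⟨x, hx⟩]
    exact hr.le ⟨_, rfl⟩

theorem ext_le (hS : IsPGroup p S) {a b M : Subgroup Ω} {g : Ω → Ω} (ha : a ≤ S)
    (hg : F.IsIso (nOp F p a) M g) (hab : Img g a b) : M ≤ nOp F p b := by
  intro y hy
  obtain ⟨u, hu, rfl⟩ := hg.surj hy
  exact nOp_apply hg (le_nOp hS ha) hab hu hu

/-- Conjugate `K'`-side of the construction: move the normaliser of `K` inside that of `a` to the
normaliser of a good point of the receptive conjugate. -/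
theorem exists_side (hS : IsPGroup p S) {a K R c : Subgroup Ω} {β χ : Ω → Ω} {M : Subgroup Ω}
    (hR : F.IsReceptive R) (hχ : F.IsIso (normalizerIn S K) M χ) (hMR : M ≤ normalizerIn S R)
    (hKR : Img χ K R) (haK : a ≤ K) (hK : K ≤ normalizerIn S a) {x : Subgroup Ω} (hax : Img χ a x)
    (hβ : F.IsIso R R β) (hxc : Img β x c)
    (hW : ¬ p ∣ (wGroup S R c).relIndex (sGroup F R c)) :
    ∃ A U, F.IsIso (normalizerIn (normalizerIn S a) K) U A ∧ U ≤ normalizerIn S R ∧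
      U ≤ normalizerIn S c ∧ Img A a c ∧ Img A K R ∧ R ≤ U := by
  set L := normalizerIn (normalizerIn S a) K with hL
  have hLK : L ≤ normalizerIn S K := fun z hz => ⟨(normalizerIn_le (S := normalizerIn S a) hz).1, hz.2⟩
  have hKS : K ≤ S := hK.trans normalizerIn_le
  have hxR : x ≤ R := hax.mono hKR haK
  have haL : a ≤ L := fun z hz =>
    ⟨le_normalizerIn (haK.trans hKS) hz, Subgroup.le_normalizer (haK hz)⟩
  obtain ⟨U1, hU1, hU1M, hiso1⟩ := exists_img hχ hLK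
  have hU1x : U1 ≤ Subgroup.normalizer (x : Set Ω) := by
    intro y hy
    obtain ⟨w, hw, rfl⟩ := (hU1 y).mp hy
    exact hiso1.mem_normalizer haL hax hw (normalizerIn_le (S := normalizerIn S a) hw).2
  have hKL : K ≤ L := fun z hz => ⟨hK hz, Subgroup.le_normalizer hz⟩
  have hRU1 : R ≤ U1 := hKR.mono hU1 hKL
  obtain ⟨g, U, hg, hUR, hUc, hgR, hgx, hRU⟩ :=
    exists_extension_free hS hR hβ hxR hxc hW hRU1 (hU1M.trans hMR) hU1x
  exact ⟨_, U, hiso1.comp hg, hUR, fun y hy => ⟨hg.le_right hy, hUc hy⟩, hax.comp hgx,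
    hKR.comp hgR, hRU⟩

/-- A map between terminal members with larger source extends to `N₀`. -/
theorem ext_aux (hS : IsPGroup p S) {ℋ : Set (Subgroup Ω)} {P₀ : Subgroup Ω}
    (hsat : ∀ P ∈ ℋ, ∃ Q, F.IsConj P Q ∧ F.IsFullyAutomized p Q ∧ F.IsReceptive Q)
    (hup : ∀ P', F.IsConj P₀ P' → ∀ R, P' < R → R ≤ S → R ∈ ℋ) :
    ∀ (k : ℕ) (a b K K' : Subgroup Ω) (f : Ω → Ω), F.IsConj P₀ a → Term F a → Term F b →
      F.IsIso K K' f → a < K → K ≤ normalizerIn S a → Img f a b → Nat.card S ≤ Nat.card K + k →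
      ∃ g M, F.IsIso (nOp F p a) M g ∧ ∀ x ∈ a, g x = f x := by
  intro k
  induction k using Nat.strong_induction_on with
  | _ k ih =>
  intro a b K K' f ha0 hta htb hf haK hK hab hk
  by_cases hNK : nOp F p a ≤ K
  · obtain ⟨M, -, -, hM⟩ := exists_img hf hNK
    exact ⟨f, M, hM, fun _ _ => rfl⟩
  have hKS : K ≤ S := hK.trans normalizerIn_le
  have haS := hta.1
  haveI := finite_of_le hKS
  haveI : Finite (normalizerIn S a) := finite_normalizerIn
  have hKN : K < normalizerIn S a := lt_of_le_of_ne hK fun e => hNK ((nOp_le a).trans e.ge)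
  have hKS' : Nat.card K < Nat.card S :=
    (card_lt_of_lt hKN).trans_le (Subgroup.card_le_of_le normalizerIn_le)
  have hK' : K' ≤ normalizerIn S b := image_le_normalizerIn hf haK.le (hK.trans inf_le_right) hab
  have hK'N : K' < normalizerIn S b := by
    refine lt_of_le_of_ne hK' fun e => ?_
    obtain ⟨g, hg, hgl, -⟩ := hf.symm
    have h := htb.2 g K a (e ▸ hg) (img_symm hf haK.le hab hgl)
    rw [← e, ← hf.card_eq] at h
    exact absurd h (not_le.mpr (card_lt_of_lt hKN))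
  have hbK' : b ≤ K' := hab.mono (img_of_isIso hf) haK.le
  obtain ⟨R, hKR, hR1, hR2⟩ := hsat K (hup a ha0 K haK hKS)
  obtain ⟨χ₁, M₁, hχ₁, hM₁, hχ₁R⟩ := exists_normalizer_iso hS hR1 hR2 hKR
  obtain ⟨χ₂, M₂, hχ₂, hM₂, hχ₂R⟩ := exists_normalizer_iso hS hR1 hR2 (hf.isConj.symm.trans hKR)
  have hKNK := le_normalizerIn (S := S) hKS
  have hK'NK := le_normalizerIn (S := S) (hK'.trans normalizerIn_le)
  obtain ⟨x, hx, -, -⟩ := exists_img hχ₁ (haK.le.trans hKNK)
  obtain ⟨y, hy, -, -⟩ := exists_img hχ₂ (hbK'.trans hK'NK)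
  obtain ⟨δ, c, hδ, hxc, hcR, hW⟩ := exists_sylow_point hS hR1 (hx.mono hχ₁R haK.le)
  -- the map carrying `y` to `c`
  have h1K := hχ₁.restrict' hKNK hχ₁R
  have h2K := hχ₂.restrict' hK'NK hχ₂R
  obtain ⟨ι, hι, hιl, -⟩ := h2K.symm
  obtain ⟨fi, hfi, hfil, -⟩ := hf.symm
  have hβ := ((hι.comp hfi).comp h1K).comp hδ
  have hyc : Img (fun z => δ (χ₁ (fi (ι z)))) y c :=
    (((img_symm h2K hbK' hy hιl).comp (img_symm hf haK.le hab hfil)).comp hx).comp hxc
  obtain ⟨A, U₁, hA, hU₁R, hU₁c, hAc, hAR, hRU₁⟩ :=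
    exists_side hS hR2 hχ₁ hM₁ hχ₁R haK.le hK hx hδ hxc hW
  obtain ⟨B, U₂, hB, hU₂R, hU₂c, hBc, hBR, hRU₂⟩ :=
    exists_side hS hR2 hχ₂ hM₂ hχ₂R hbK' hK' hy hβ hyc hW
  set L := normalizerIn (normalizerIn S a) K with hL
  set L' := normalizerIn (normalizerIn S b) K' with hL'
  have hKL : K ≤ L := fun z hz => ⟨hK hz, Subgroup.le_normalizer hz⟩
  have hK'L' : K' ≤ L' := fun z hz => ⟨hK' hz, Subgroup.le_normalizer hz⟩
  have hKlt : K < L := lt_normalizerIn (hS.to_le normalizerIn_le) hKN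
  haveI : Finite (normalizerIn S b) := finite_normalizerIn
  have hK'lt : K' < L' := lt_normalizerIn (hS.to_le normalizerIn_le) hK'N
  haveI := finite_of_le hA.le_left
  haveI := finite_of_le hB.le_left
  have hcL : Nat.card K < Nat.card L := card_lt_of_lt hKlt
  have hcL' : Nat.card K < Nat.card L' := hf.card_eq.trans_lt (card_lt_of_lt hK'lt)
  -- the automorphism of `R` fixing `c`
  have hAK := hA.restrict' hKL hAR
  have hBK := hB.restrict' hK'L' hBR
  obtain ⟨Ai, hAi, hAil, -⟩ := hAK.symm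
  have hε := (hAi.comp hf).comp hBK
  have hεc : Img (fun z => B (f (Ai z))) c c :=
    ((img_symm hAK haK.le hAc hAil).comp hab).comp hBc
  -- a strictly larger source for it
  let U := R ⊔ (normalizerIn S R ⊓ nOp F p c)
  have hUR : U ≤ normalizerIn S R := sup_le (le_normalizerIn hR2.1) inf_le_left
  have hUc : U ≤ normalizerIn S c := sup_le (hRU₁.trans hU₁c) (inf_le_right.trans (nOp_le c))
  have hRU : R < U := by
    refine lt_of_le_of_ne le_sup_left fun e => hNK ?_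
    by_contra hnot
    have hKNO : K ≤ Subgroup.normalizer (nOp F p a : Set Ω) :=
      hK.trans (normalizerIn_le_normalizer_nOp haS)
    have hle : K ⊔ nOp F p a ≤ normalizerIn S a := sup_le hK (nOp_le a)
    haveI := finite_of_le (hle.trans normalizerIn_le)
    have hlt := lt_normalizerIn (hS.to_le (hle.trans normalizerIn_le))
      (left_lt_sup.mpr hnot : K < K ⊔ nOp F p a)
    obtain ⟨w, hw, hwK⟩ := SetLike.exists_of_lt hlt
    have hw1 : w ∈ ((K ⊔ nOp F p a : Subgroup Ω) : Set Ω) := normalizerIn_le (S := K ⊔ nOp F p a) hw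
    rw [Subgroup.coe_mul_of_left_le_normalizer_right _ _ hKNO] at hw1
    obtain ⟨u, hu, n, hn, rfl⟩ := hw1
    have hnK : n ∈ Subgroup.normalizer (K : Set Ω) := by
      have h := mul_mem (InvMemClass.inv_mem (Subgroup.le_normalizer hu)) hw.2
      rwa [inv_mul_cancel_left] at h
    have hnL : n ∈ L := ⟨nOp_le a hn, hnK⟩
    have hAn : A n ∈ U := le_sup_right (a := R) (Subgroup.mem_inf.mpr
      ⟨hU₁R (hA.mem hnL), nOp_apply hA (haK.le.trans hKL) hAc hnL hn⟩)
    rw [← e] at hAn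
    obtain ⟨z, hz, hze⟩ := (hAR _).mp hAn
    exact hwK (mul_mem hu (hA.inj (hKL hz) hnL hze ▸ hz))
  obtain ⟨G, U', hG, -, hU'c, -, hGc, -, hGe⟩ :=
    exists_extension_exact hS hR2 hε hcR hεc hW (U := U) le_sup_left hUR (hUc.trans inf_le_right) (by
      let T : Subgroup Ω :=
        { carrier := {u | u ∈ normalizerIn S c ∧ ∃ s, s ∈ normalizerIn S R ∧ s ∈ normalizerIn S c ∧
            ∀ z ∈ c, B (f (Ai (u * z * u⁻¹))) = s * B (f (Ai z)) * s⁻¹}
          one_mem' := ⟨one_mem _, 1, one_mem _, one_mem _, fun z _ => by simp⟩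
          mul_mem' := by
            rintro u v ⟨hu, s, hs, hs', hse⟩ ⟨hv, t, ht, ht', hte⟩
            refine ⟨mul_mem hu hv, s * t, mul_mem hs ht, mul_mem hs' ht', fun z hz => ?_⟩
            rw [show u * v * z * (u * v)⁻¹ = u * (v * z * v⁻¹) * u⁻¹ by group,
              hse _ ((Subgroup.mem_normalizer_iff.mp hv.2 z).mp hz), hte z hz]
            group
          inv_mem' := by
            rintro u ⟨hu, s, hs, hs', hse⟩
            refine ⟨InvMemClass.inv_mem hu, s⁻¹, InvMemClass.inv_mem hs, InvMemClass.inv_mem hs',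
              fun z hz => ?_⟩
            have hz' : u⁻¹ * z * u⁻¹⁻¹ ∈ c :=
              (Subgroup.mem_normalizer_iff.mp (InvMemClass.inv_mem hu.2) z).mp hz
            have h := hse _ hz'
            rw [show u * (u⁻¹ * z * u⁻¹⁻¹) * u⁻¹ = z by group] at h
            rw [h]
            group }
      have hUT : U ≤ T := by
        refine sup_le (fun u hu => ?_) (fun u hu => ?_)
        · have hεu : B (f (Ai u)) ∈ R := hε.mem hu
          exact ⟨hUc (le_sup_left (b := normalizerIn S R ⊓ nOp F p c) hu), B (f (Ai u)),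
            le_normalizerIn hR2.1 hεu, hUc (le_sup_left (b := normalizerIn S R ⊓ nOp F p c) hεu),
            fun z hz => hε.apply_conj hu (hcR hz)⟩
        · obtain ⟨hu1, hu2⟩ := Subgroup.mem_inf.mp hu
          exact ⟨nOp_le c hu2, exists_inner_of_op hS hR2.1 hcR hW hε hεc hu1 hu2⟩
      exact fun u hu => (hUT hu).2)
  -- a terminal member above `c`
  have hcS : c ≤ S := hcR.trans hR2.1
  obtain ⟨ρ, Mρ, tc, hρ, hρc, htc⟩ := exists_term (F := F) hcS
  have hMρ : Mρ ≤ normalizerIn S tc := image_le_normalizerIn hρ (le_normalizerIn hcS) inf_le_right hρc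
  obtain ⟨N₁, hN₁, hN₁le⟩ := comp_le hA hρ hU₁c
  obtain ⟨N₂, hN₂, hN₂le⟩ := comp_le hB hρ hU₂c
  have hatc : Img (fun z => ρ (A z)) a tc := hAc.comp hρc
  have hbtc : Img (fun z => ρ (B z)) b tc := hBc.comp hρc
  have htc0 : F.IsConj P₀ tc := ha0.trans (isConj_of_img hN₁ (haK.le.trans hKL) hatc)
  have hLN : L ≤ normalizerIn S a := normalizerIn_le
  obtain ⟨g₁, E₁, hg₁, hg₁e⟩ := ih (k - 1) (by omega) a tc L N₁ _ ha0 hta htc hN₁
    (haK.trans_le hKL) hLN hatc (by omega)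
  -- the middle map
  obtain ⟨UU, hUU, hUUle, hρU⟩ := exists_img hρ hUc
  obtain ⟨ρi, hρi, hρil, -⟩ := hρU.symm
  have hU'N : U' ≤ normalizerIn S c := fun z hz => ⟨hG.le_right hz, hU'c hz⟩
  obtain ⟨N₀, hN₀, -⟩ := comp_le (hρi.comp hG) hρ hU'N
  have hcU : c ≤ U := hcR.trans le_sup_left
  have htctc : Img (fun z => ρ (G (ρi z))) tc tc :=
    ((img_symm hρU hcU hρc hρil).comp hGc).comp hρc
  have hcard : Nat.card K < Nat.card UU := by
    haveI := finite_of_le (hUR.trans normalizerIn_le)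
    rw [← hρU.card_eq, hKR.card_eq]
    exact card_lt_of_lt hRU
  have hca : Nat.card tc = Nat.card a := (isConj_of_img hN₁ (haK.le.trans hKL) hatc).card_eq.symm
  have htcUU : tc < UU := by
    refine lt_of_le_of_ne (hρc.mono hUU hcU) fun e => ?_
    rw [← e, hca] at hcard
    exact absurd hcard (not_lt.mpr (Subgroup.card_le_of_le haK.le))
  obtain ⟨g₂, E₂, hg₂, hg₂e⟩ := ih (k - 1) (by omega) tc tc UU N₀ _ htc0 htc htc hN₀ htcUU
    (hUUle.trans hMρ) htctc (by omega)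
  -- back to `b`
  obtain ⟨Bi, hBi, hBil, -⟩ := hN₂.symm
  have htcN₂ : tc < N₂ := by
    refine lt_of_le_of_ne (hbtc.mono (img_of_isIso hN₂) (hbK'.trans hK'L')) fun e => ?_
    rw [hN₂.card_eq, ← e, hca] at hcL'
    exact absurd hcL' (not_lt.mpr (Subgroup.card_le_of_le haK.le))
  obtain ⟨g₃, E₃, hg₃, hg₃e⟩ := ih (k - 1) (by omega) tc b N₂ L' _ htc0 htc htb hBi htcN₂
    (hN₂le.trans hMρ) (img_symm hN₂ (hbK'.trans hK'L') hbtc hBil)
    (by rw [← hN₂.card_eq]; omega)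
  have hE₁ := ext_le hS haS hg₁ (hatc.congr hg₁e)
  have hE₂ := ext_le hS htc.1 hg₂ (htctc.congr hg₂e)
  obtain ⟨E₁₂, h12, h12le⟩ := comp_le hg₁ hg₂ hE₁
  obtain ⟨E, hE, -⟩ := comp_le h12 hg₃ (h12le.trans hE₂)
  refine ⟨_, E, hE, fun z hz => ?_⟩
  have hAz : A z ∈ c := hAc.mem hz
  show g₃ (g₂ (g₁ z)) = f z
  rw [hg₁e z hz, hg₂e _ (hatc.mem hz)]
  show g₃ (ρ (G (ρi (ρ (A z))))) = f z
  rw [hρil _ (hcU hAz), hGe _ hAz, hAil z (haK.le hz)]
  show g₃ (ρ (B (f z))) = f z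
  rw [hg₃e _ (hbtc.mem (hab.mem hz))]
  exact hBil (f z) (hK'L' (hbK' (hab.mem hz)))

end Cfsg.FusionSystem.Family
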