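import Cfsg.Agent.Lib.Fusion.FamilySaturation.Link

/-!
Elements of the normaliser of a point stabiliser realising maps in the largest normal `p`-subgroup.
-/

set_option autoImplicit false
set_option linter.unusedSectionVars false
set_option linter.style.haveILetI false

universe u

namespace Cfsg.FusionSystem.Family

variable {Ω : Type u} [Group Ω] {S : Subgroup Ω} {F : FusionSystem S} {p : ℕ}

theorem card_lt_of_lt {A B : Subgroup Ω} [Finite B] (h : A < B) : Nat.card A < Nat.card B := by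
  by_contra hc
  exact h.ne (Subgroup.eq_of_le_of_card_ge h.le (not_lt.mp hc))

/-- Restriction of a stabilising automorphism. -/
def restrictTo (R c : Subgroup Ω) (hc : c ≤ R) : stabIn R c →* MulAut c where
  toFun α :=
    { toFun := fun x => ⟨((α : MulAut R) ⟨x, hc x.2⟩ : R), (α.2 ⟨x, hc x.2⟩).mpr x.2⟩
      invFun := fun x => ⟨((α : MulAut R)⁻¹ ⟨x, hc x.2⟩ : R), ((stabIn R c).inv_mem α.2 ⟨x, hc x.2⟩).mpr x.2⟩
      left_inv := fun x => by
        apply Subtype.ext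
        show (((α : MulAut R)⁻¹ ⟨(((α : MulAut R) ⟨x, hc x.2⟩ : R) : Ω), _⟩ : R) : Ω) = x
        rw [Subtype.coe_eta, MulAut.inv_apply_self]
      right_inv := fun x => by
        apply Subtype.ext
        show (((α : MulAut R) ⟨(((α : MulAut R)⁻¹ ⟨x, hc x.2⟩ : R) : Ω), _⟩ : R) : Ω) = x
        rw [Subtype.coe_eta, MulAut.apply_inv_self]
      map_mul' := fun x y => by
        apply Subtype.ext
        show ((((α : MulAut R) (⟨x, hc x.2⟩ * ⟨y, hc y.2⟩) : R)) : Ω) = _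
        rw [map_mul]
        rfl }
  map_one' := rfl
  map_mul' _ _ := rfl

theorem restrictTo_apply {R c : Subgroup Ω} (hc : c ≤ R) (α : stabIn R c) (x : c) :
    ((restrictTo R c hc α x : c) : Ω) = (((α : MulAut R) ⟨x, hc x.2⟩ : R) : Ω) := rfl

variable [Finite S] [Fact p.Prime]

theorem exists_inner_of_op (hS : IsPGroup p S) {R c : Subgroup Ω} (hR : R ≤ S) (hc : c ≤ R)
    (hW : ¬ p ∣ (wGroup S R c).relIndex (sGroup F R c)) {ε : Ω → Ω} (hε : F.IsIso R R ε) (hεc : Img ε c c)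
    {u : Ω} (hu : u ∈ normalizerIn S R) (hu' : u ∈ nOp F p c) :
    ∃ s, s ∈ normalizerIn S R ∧ s ∈ normalizerIn S c ∧ ∀ z ∈ c, ε (u * z * u⁻¹) = s * ε z * s⁻¹ := by
  haveI := finite_of_le hR
  haveI := finite_of_le (hc.trans hR)
  haveI := finite_mulAut_of_le hR
  haveI := finite_mulAut_of_le (hc.trans hR)
  obtain ⟨α, hα, hαe⟩ := hε.toAut
  obtain ⟨huc, o, ho, hoe⟩ := hu'
  have hαst : α ∈ stabIn R c := by
    intro y
    rw [hαe]
    constructor
    · intro h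
      obtain ⟨z, hz, e⟩ := (hεc _).mp h
      rwa [← hε.inj (hc hz) y.2 e]
    · exact hεc.mem
  let cu : MulAut R := R.normalizerMonoidHom ⟨u, hu.2⟩
  have hcu : cu ∈ sGroup F R c := Subgroup.mem_inf.mpr
    ⟨autInducedBy_le_autGroup hR (mem_autInducedBy_iff.mpr ⟨u, hu.1, hu.2, fun x => rfl⟩),
      fun y => (Subgroup.mem_normalizer_iff.mp huc.2 y).symm⟩
  have hsle : sGroup F R c ≤ stabIn R c := inf_le_right
  obtain ⟨r, hr⟩ : ∃ r : sGroup F R c →* MulAut c,
      ∀ (β : sGroup F R c) (x : c), ((r β x : c) : Ω) = (((β : MulAut R) ⟨x, hc x.2⟩ : R) : Ω) :=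
    ⟨(restrictTo R c hc).comp (Subgroup.inclusion hsle), fun β x => restrictTo_apply hc _ x⟩
  have hrA : ∀ β, r β ∈ F.autGroup c := by
    intro β
    obtain ⟨g, hg, hge⟩ := isIso_of_aut hR (Subgroup.mem_inf.mp β.2).1
    obtain ⟨φ, hφ, -, hφe⟩ := id hg
    exact F.mem_autGroup_of_map (F.restrict_mem hφ hc) fun x => by
      rw [hr, hge]
      exact (hφe (Subgroup.inclusion hc x)).symm
  obtain ⟨a, ha⟩ : ∃ a : sGroup F R c, (a : MulAut R) = α :=
    ⟨⟨α, Subgroup.mem_inf.mpr ⟨hα, hαst⟩⟩, rfl⟩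
  obtain ⟨b, hb⟩ : ∃ b : sGroup F R c, b = a * ⟨cu, hcu⟩ * a⁻¹ := ⟨_, rfl⟩
  have hrb : r b ∈ opAut F p c := by
    rw [hb, map_mul, map_mul, map_inv]
    refine opAut_normal (hrA a) ?_
    have e : r ⟨cu, hcu⟩ = o := by
      ext x
      rw [hr, hoe]
      rfl
    rwa [e]
  let N : Subgroup r.range := (opAut F p c).subgroupOf r.range
  haveI : N.Normal := by
    refine ⟨?_⟩
    rintro ⟨x, hx⟩ hxN ⟨_, ⟨β, rfl⟩⟩
    exact opAut_normal (hrA β) hxN
  have hNp : IsPGroup p N :=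
    ((CfsgLib.isPGroup_pCore p).map _ : IsPGroup p (opAut F p c)).comap_of_injective _
      (Subgroup.subtype_injective _)
  let W : Subgroup r.range := (((wGroup S R c).subgroupOf (sGroup F R c)).map r.rangeRestrict)
  have hWp : IsPGroup p W :=
    ((((isPGroup_autInducedBy hS).to_le inf_le_left : IsPGroup p (wGroup S R c))).comap_of_injective _
      (Subgroup.subtype_injective _)).map _
  have hWi : ¬ p ∣ W.index := fun h => hW
    (h.trans (Subgroup.index_map_dvd _ r.rangeRestrict_surjective))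
  obtain ⟨⟨w, hw⟩, hwW, hwe⟩ := normal_le_of_not_dvd hNp hWp hWi
    (show (⟨r b, b, rfl⟩ : r.range) ∈ N from hrb)
  obtain ⟨hw1, hw2⟩ := Subgroup.mem_inf.mp hwW
  obtain ⟨s, hs, hsn, hse⟩ := mem_autInducedBy_iff.mp hw1
  have hwe' : r ⟨w, hw⟩ = r b := congrArg Subtype.val hwe
  refine ⟨s, ⟨hs, hsn⟩, ⟨hs, Subgroup.mem_normalizer_fintype fun y hy => ?_⟩, fun z hz => ?_⟩
  · have h := (hw2 ⟨y, hc hy⟩).mpr hy
    rwa [hse] at h
  · have h := DFunLike.congr_fun hwe' ⟨ε z, hεc.mem hz⟩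
    have h' := congrArg Subtype.val h
    rw [hr, hr] at h'
    have e1 : (w ⟨ε z, hc (hεc.mem hz)⟩ : Ω) = s * ε z * s⁻¹ := hse _
    have e2 : (⟨ε z, hc (hεc.mem hz)⟩ : R) = α ⟨z, hc hz⟩ := Subtype.ext (hαe ⟨z, hc hz⟩).symm
    have e3 : ((b : MulAut R) ⟨ε z, hc (hεc.mem hz)⟩ : Ω) = ε (u * z * u⁻¹) := by
      rw [hb, Subgroup.coe_mul, Subgroup.coe_mul, Subgroup.coe_inv, ha, MulAut.mul_apply, MulAut.mul_apply]
      rw [e2, MulAut.inv_apply_self, hαe]
      rfl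
    rw [← e3, ← e1]
    exact h'.symm

end Cfsg.FusionSystem.Family
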