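import Cfsg.Agent.Lib.Fusion.FamilySaturation.Setup

/-!
Terminal members of a class and composites of restrictions.
-/

set_option autoImplicit false
set_option linter.unusedSectionVars false
set_option linter.style.haveILetI false

universe u

namespace Cfsg.FusionSystem.Family

variable {Ω : Type u} [Group Ω] {S : Subgroup Ω} {F : FusionSystem S} {p : ℕ}

theorem comp_le {A B B' C : Subgroup Ω} {f g : Ω → Ω} (h : F.IsIso A B f) (h' : F.IsIso B' C g) (hle : B ≤ B') :
    ∃ C', F.IsIso A C' (fun x => g (f x)) ∧ C' ≤ C := by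
  obtain ⟨C', hC, hle', -⟩ := h'.restrict hle
  exact ⟨C', h.comp hC, hle'⟩

theorem range_eq {A B : Subgroup Ω} {f : Ω → Ω} (h : F.IsIso A B f) (φ : A →* Ω) (he : ∀ x : A, φ x = f x) :
    φ.range = B := by
  obtain ⟨χ, -, hr, hχ⟩ := h
  rw [show φ = χ from MonoidHom.ext fun x => (he x).trans (hχ x).symm, hr]

theorem img_id (A : Subgroup Ω) : Img (fun x => x) A A := fun _ =>
  ⟨fun h => ⟨_, h, rfl⟩, fun ⟨_, h, e⟩ => e ▸ h⟩

/-- `a` cannot be moved to a class member with larger normaliser. -/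
def Term (F : FusionSystem S) (a : Subgroup Ω) : Prop :=
  a ≤ S ∧ ∀ (f : Ω → Ω) (K' b : Subgroup Ω), F.IsIso (normalizerIn S a) K' f → Img f a b →
    Nat.card (normalizerIn S b) ≤ Nat.card (normalizerIn S a)

variable [Finite S]

theorem image_le_normalizerIn {a b K K' : Subgroup Ω} {f : Ω → Ω} (h : F.IsIso K K' f) (haK : a ≤ K)
    (hK : K ≤ Subgroup.normalizer (a : Set Ω)) (hab : Img f a b) : K' ≤ normalizerIn S b := by
  intro y hy
  obtain ⟨u, hu, rfl⟩ := h.surj hy
  exact ⟨h.le_right hy, h.mem_normalizer haK hab hu (hK hu)⟩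

theorem exists_term {a : Subgroup Ω} (ha : a ≤ S) :
    ∃ f K' b, F.IsIso (normalizerIn S a) K' f ∧ Img f a b ∧ Term F b := by
  let T : Set (Subgroup Ω) := {b | ∃ f K', F.IsIso (normalizerIn S a) K' f ∧ Img f a b}
  have hsub : ∀ b ∈ T, b ≤ S := by
    rintro b ⟨f, K', hf, hb⟩
    exact fun y hy => hf.le_right ((hb.mono (img_of_isIso hf) (le_normalizerIn ha)) hy)
  obtain ⟨b, ⟨f, K', hf, hb⟩, hmax⟩ := Set.exists_max_image T (fun b => Nat.card (normalizerIn S b))
    ((finite_setOf_le S).subset hsub) ⟨a, _, _, IsIso.refl F normalizerIn_le, img_id a⟩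
  refine ⟨f, K', b, hf, hb, hsub b ⟨f, K', hf, hb⟩, fun g M c hg hc => ?_⟩
  obtain ⟨C', hC', -⟩ := comp_le hf hg (image_le_normalizerIn hf (le_normalizerIn ha) inf_le_right hb)
  exact hmax c ⟨_, C', hC', hb.comp hc⟩

theorem Term.rise {a b K' : Subgroup Ω} {f : Ω → Ω} (ha : Term F a)
    (hf : F.IsIso (normalizerIn S a) K' f) (hab : Img f a b) : K' = normalizerIn S b ∧ Term F b := by
  haveI := finite_normalizerIn (S := S) (P := b)
  have hle := image_le_normalizerIn hf (le_normalizerIn ha.1) inf_le_right hab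
  have hc := ha.2 f K' b hf hab
  have he : K' = normalizerIn S b := Subgroup.eq_of_le_of_card_ge hle (by rwa [← hf.card_eq])
  refine ⟨he, fun y hy => hf.le_right ((hab.mono (img_of_isIso hf) (le_normalizerIn ha.1)) hy), ?_⟩
  intro g M c hg hc'
  subst he
  obtain ⟨C', hC', -⟩ := comp_le hf hg le_rfl
  rw [← hf.card_eq]
  exact ha.2 _ C' c hC' (hab.comp hc')

theorem nOp_conj [Fact p.Prime] {a : Subgroup Ω} (ha : a ≤ S) {u n : Ω} (hu : u ∈ normalizerIn S a)
    (hn : n ∈ nOp F p a) : u * n * u⁻¹ ∈ nOp F p a := by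
  have h := isIso_conj_normalizer (E := F) (P := normalizerIn S a) normalizerIn_le hu.1
    (Subgroup.le_normalizer hu)
  refine nOp_apply h (le_normalizerIn ha) ?_ (nOp_le a hn) hn
  intro y
  constructor
  · intro hy
    exact ⟨u⁻¹ * y * u, (Subgroup.mem_normalizer_iff''.mp hu.2 y).mp hy, by group⟩
  · rintro ⟨x, hx, rfl⟩
    exact (Subgroup.mem_normalizer_iff.mp hu.2 x).mp hx

theorem normalizerIn_le_normalizer_nOp [Fact p.Prime] {a : Subgroup Ω} (ha : a ≤ S) :
    normalizerIn S a ≤ Subgroup.normalizer (nOp F p a : Set Ω) := by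
  intro u hu
  refine Subgroup.mem_normalizer_iff.mpr fun y => ⟨nOp_conj ha hu, fun hy => ?_⟩
  have h := nOp_conj (F := F) (p := p) ha (InvMemClass.inv_mem hu) hy
  simpa [mul_assoc] using h

theorem Term.nOp_eq [Fact p.Prime] {a b K' R : Subgroup Ω} {f : Ω → Ω} (ha : Term F a)
    (hf : F.IsIso (normalizerIn S a) K' f) (hab : Img f a b) (hR : Img f (nOp F p a) R) :
    nOp F p b = R := by
  obtain ⟨rfl, hb⟩ := ha.rise hf hab
  have haN := le_normalizerIn (S := S) ha.1
  refine le_antisymm (fun y hy => ?_) (fun y hy => ?_)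
  · obtain ⟨g, hg, hgl, hgr⟩ := hf.symm
    have h1 := nOp_apply hg (le_normalizerIn hb.1) (img_symm hf haN hab hgl) (nOp_le b hy) hy
    rw [← hgr y (nOp_le b hy)]
    exact hR.mem h1
  · obtain ⟨x, hx, rfl⟩ := (hR y).mp hy
    exact nOp_apply hf haN hab (nOp_le a hx) hx

/-- Composites of restrictions of maps with strictly larger source. -/
inductive Linked (F : FusionSystem S) : Subgroup Ω → Subgroup Ω → (Ω → Ω) → Prop
  | step {A B K K' : Subgroup Ω} {f : Ω → Ω} : A < K → K ≤ Subgroup.normalizer (A : Set Ω) →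
      F.IsIso K K' f → Img f A B → Linked F A B f
  | comp {A B C : Subgroup Ω} {f g : Ω → Ω} : Linked F A B f → Linked F B C g → Linked F A C (fun x => g (f x))
  | congr {A B : Subgroup Ω} {f g : Ω → Ω} : Linked F A B f → (∀ x ∈ A, g x = f x) → Linked F A B g

theorem Linked.isIso {A B : Subgroup Ω} {f : Ω → Ω} (h : Linked F A B f) : F.IsIso A B f := by
  induction h with
  | step hlt _ hf hB => exact hf.restrict' hlt.le hB
  | comp _ _ h1 h2 => exact h1.comp h2
  | congr _ he h1 => exact h1.congr he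

theorem Linked.symm {A B : Subgroup Ω} {f : Ω → Ω} (h : Linked F A B f) :
    ∃ g, Linked F B A g ∧ ∀ x ∈ A, g (f x) = x := by
  induction h with
  | @step A B K K' f hlt hn hf hB =>
    obtain ⟨g, hg, hgl, hgr⟩ := hf.symm
    refine ⟨g, .step (K := K') (K' := K) (lt_of_le_of_ne (hB.mono (img_of_isIso hf) hlt.le) ?_) ?_ hg
      (img_symm hf hlt.le hB hgl), fun x hx => hgl x (hlt.le hx)⟩
    · rintro rfl
      refine hlt.ne (le_antisymm hlt.le fun x hx => ?_)
      obtain ⟨y, hy, e⟩ := (hB _).mp (hf.mem hx)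
      rwa [← hf.inj (hlt.le hy) hx e]
    · intro y hy
      obtain ⟨u, hu, rfl⟩ := hf.surj hy
      exact hf.mem_normalizer hlt.le hB hu (hn hu)
  | @comp A B C f g h1 h2 ih1 ih2 =>
    obtain ⟨f', hf', hfl⟩ := ih1
    obtain ⟨g', hg', hgl⟩ := ih2
    exact ⟨_, hg'.comp hf', fun x hx => by
      show f' (g' (g (f x))) = x
      rw [hgl _ (h1.isIso.mem hx), hfl x hx]⟩
  | congr _ he ih =>
    obtain ⟨g', hg', hgl⟩ := ih
    exact ⟨g', hg', fun x hx => by rw [he x hx]; exact hgl x hx⟩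

/-- Restrictions of a map with strictly larger source are linked. -/
theorem Linked.of_lt (hS : IsPGroup p S) [Fact p.Prime] {A K K' : Subgroup Ω} {f : Ω → Ω}
    (h : F.IsIso K K' f) (hAK : A < K) : ∃ B, Linked F A B f ∧ Img f A B := by
  haveI := finite_of_le h.le_left
  obtain ⟨B, hB, -, -⟩ := exists_img h hAK.le
  obtain ⟨K₁, hK₁, -, -⟩ := h.restrict (normalizerIn_le (S := K) (P := A))
  exact ⟨B, .step (lt_normalizerIn (hS.to_le h.le_left) hAK) inf_le_right hK₁ hB, hB⟩

end Cfsg.FusionSystem.Family
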