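import Cfsg.Agent.Lib.Fusion.Iso
import Cfsg.Agent.Lib.Fusion.Alperin
import Cfsg.Agent.Lib.Basic

/-!
Extending isomorphisms to normalisers: preparations for the saturation criterion by families.
-/

set_option autoImplicit false
set_option linter.unusedSectionVars false
set_option linter.style.haveILetI false

universe u

namespace Cfsg.FusionSystem.Family

variable {Ω : Type u} [Group Ω] {S : Subgroup Ω}

/-- `B` is the image of `A` under `f`. -/
def Img (f : Ω → Ω) (A B : Subgroup Ω) : Prop := ∀ y, y ∈ B ↔ ∃ x ∈ A, f x = y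

theorem Img.mem {f : Ω → Ω} {A B : Subgroup Ω} (h : Img f A B) {x : Ω} (hx : x ∈ A) : f x ∈ B :=
  (h _).mpr ⟨x, hx, rfl⟩

theorem Img.comp {f g : Ω → Ω} {A B C : Subgroup Ω} (h : Img f A B) (h' : Img g B C) :
    Img (fun x => g (f x)) A C := by
  intro y
  rw [h' y]
  constructor
  · rintro ⟨_, hb, rfl⟩
    obtain ⟨x, hx, rfl⟩ := (h _).mp hb
    exact ⟨x, hx, rfl⟩
  · rintro ⟨x, hx, rfl⟩
    exact ⟨f x, h.mem hx, rfl⟩

theorem Img.congr {f g : Ω → Ω} {A B : Subgroup Ω} (h : Img f A B) (he : ∀ x ∈ A, g x = f x) : Img g A B := by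
  intro y
  rw [h y]
  exact ⟨fun ⟨x, hx, e⟩ => ⟨x, hx, (he x hx).trans e⟩, fun ⟨x, hx, e⟩ => ⟨x, hx, (he x hx).symm.trans e⟩⟩

theorem Img.mono {f : Ω → Ω} {A B A' B' : Subgroup Ω} (h : Img f A B) (h' : Img f A' B') (hle : A ≤ A') :
    B ≤ B' := by
  intro y hy
  obtain ⟨x, hx, rfl⟩ := (h y).mp hy
  exact h'.mem (hle hx)

theorem img_of_isIso {E : FusionSystem S} {A B : Subgroup Ω} {f : Ω → Ω} (h : E.IsIso A B f) : Img f A B :=
  fun _ => ⟨h.surj, fun ⟨_, hx, e⟩ => e ▸ h.mem hx⟩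

theorem exists_img {E : FusionSystem S} {K K' A : Subgroup Ω} {f : Ω → Ω} (h : E.IsIso K K' f) (hA : A ≤ K) :
    ∃ B, Img f A B ∧ B ≤ K' ∧ E.IsIso A B f := by
  obtain ⟨B, hB, hle, hm⟩ := h.restrict hA
  exact ⟨B, hm, hle, hB⟩

theorem isConj_of_img {E : FusionSystem S} {K K' A B : Subgroup Ω} {f : Ω → Ω} (h : E.IsIso K K' f) (hA : A ≤ K)
    (hB : Img f A B) : E.IsConj A B :=
  (h.restrict' hA hB).isConj

theorem img_symm {E : FusionSystem S} {K K' A B : Subgroup Ω} {f g : Ω → Ω} (h : E.IsIso K K' f) (hA : A ≤ K)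
    (hB : Img f A B) (hgl : ∀ x ∈ K, g (f x) = x) : Img g B A := by
  intro y
  constructor
  · intro hy
    exact ⟨f y, hB.mem hy, hgl y (hA hy)⟩
  · rintro ⟨z, hz, rfl⟩
    obtain ⟨x, hx, rfl⟩ := (hB z).mp hz
    rwa [hgl x (hA hx)]

/-- The automorphisms of `R` mapping the subgroup `c` to itself. -/
def stabIn (R c : Subgroup Ω) : Subgroup (MulAut R) where
  carrier := {α | ∀ x : R, ((α x : R) : Ω) ∈ c ↔ (x : Ω) ∈ c}
  one_mem' := fun x => by simp
  mul_mem' := fun {a b} ha hb x => by rw [MulAut.mul_apply]; exact (ha _).trans (hb x)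
  inv_mem' := fun {a} ha x => by
    rw [← ha (a⁻¹ x), MulAut.apply_inv_self]

variable (F : FusionSystem S) (p : ℕ)

/-- The part of the automizer of `R` fixing `c` that is induced by `S`. -/
def wGroup (S R c : Subgroup Ω) : Subgroup (MulAut R) := autInducedBy S R ⊓ stabIn R c

/-- The part of the automizer of `R` fixing `c`. -/
def sGroup (F : FusionSystem S) (R c : Subgroup Ω) : Subgroup (MulAut R) := F.autGroup R ⊓ stabIn R c

/-- The largest normal `p`-subgroup of the automizer. -/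
def opAut (a : Subgroup Ω) : Subgroup (MulAut a) := (pCore p (F.autGroup a)).map (F.autGroup a).subtype

/-- The elements of the normaliser inducing an element of `O_p` of the automizer. -/
def nOp (a : Subgroup Ω) : Subgroup Ω where
  carrier := {g | g ∈ normalizerIn S a ∧ ∃ α ∈ opAut F p a, ∀ x : a, ((α x : a) : Ω) = g * x * g⁻¹}
  one_mem' := ⟨one_mem _, 1, one_mem _, fun x => by simp⟩
  mul_mem' := by
    rintro g h ⟨hg, α, hα, he⟩ ⟨hh, β, hβ, he'⟩
    refine ⟨mul_mem hg hh, α * β, mul_mem hα hβ, fun x => ?_⟩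
    rw [MulAut.mul_apply, he, he']
    group
  inv_mem' := by
    rintro g ⟨hg, α, hα, he⟩
    refine ⟨InvMemClass.inv_mem hg, α⁻¹, InvMemClass.inv_mem hα, fun x => ?_⟩
    have h := he (α⁻¹ x)
    rw [MulAut.apply_inv_self] at h
    rw [h]
    group

variable {F p}

theorem nOp_le (a : Subgroup Ω) : nOp F p a ≤ normalizerIn S a := fun _ h => h.1

theorem nOp_le_S (a : Subgroup Ω) : nOp F p a ≤ S := (nOp_le a).trans normalizerIn_le

theorem opAut_le (a : Subgroup Ω) : opAut F p a ≤ F.autGroup a := Subgroup.map_subtype_le _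

theorem opAut_normal {a : Subgroup Ω} {α β : MulAut a} (hα : α ∈ F.autGroup a) (hβ : β ∈ opAut F p a) :
    α * β * α⁻¹ ∈ opAut F p a := by
  obtain ⟨γ, hγ, rfl⟩ := Subgroup.mem_map.mp hβ
  have hn : (pCore p (F.autGroup a)).Normal := inferInstance
  have h := Subgroup.mem_map_of_mem (F.autGroup a).subtype (hn.conj_mem γ hγ ⟨α, hα⟩)
  rw [map_mul, map_mul, map_inv] at h
  exact h

theorem opAut_map [Fact p.Prime] [Finite S] {a b : Subgroup Ω} {φ : a →* Ω} (hφ : φ ∈ F.Hom a) (hr : φ.range = b) :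
    (opAut F p a).map (MulAut.congr (F.isoOf hφ hr)).toMonoidHom ≤ opAut F p b := by
  haveI := finite_autGroup (F := F) (F.source_le hφ)
  haveI := finite_autGroup (F := F) (P := b) (hr ▸ F.range_le hφ)
  set e := (MulAut.congr (F.isoOf hφ hr)).toMonoidHom with he
  have hA : (F.autGroup a).map e = F.autGroup b := F.autGroup_map_congr hφ hr
  set X := (opAut F p a).map e with hX
  have hXA : X ≤ F.autGroup b := hA ▸ Subgroup.map_mono (opAut_le a)
  haveI : (X.subgroupOf (F.autGroup b)).Normal := by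
    refine ⟨?_⟩
    rintro ⟨x, hx⟩ hxX ⟨g, hg⟩
    obtain ⟨α, hα, rfl⟩ := hxX
    obtain ⟨β, hβ, rfl⟩ := hA.ge hg
    refine ⟨β * α * β⁻¹, opAut_normal hβ hα, ?_⟩
    show e (β * α * β⁻¹) = e β * e α * (e β)⁻¹
    rw [map_mul, map_mul, map_inv]
  have hp : IsPGroup p (X.subgroupOf (F.autGroup b)) :=
    (((CfsgLib.isPGroup_pCore p).map _).map e).of_equiv (Subgroup.subgroupOfEquivOfLe hXA).symm
  intro x hx
  exact ⟨⟨x, hXA hx⟩, CfsgLib.le_pCore hp (Subgroup.mem_subgroupOf.mpr hx), rfl⟩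

/-- `N₀` is equivariant. -/
theorem nOp_apply [Fact p.Prime] [Finite S] {a b K K' : Subgroup Ω} {f : Ω → Ω} (h : F.IsIso K K' f)
    (haK : a ≤ K) (hab : Img f a b) {u : Ω} (hu : u ∈ K) (hu' : u ∈ nOp F p a) : f u ∈ nOp F p b := by
  obtain ⟨hun, α, hα, he⟩ := hu'
  obtain ⟨φ, hφ, hr, hφe⟩ := h.restrict' haK hab
  refine ⟨⟨h.le_right (h.mem hu), h.mem_normalizer haK hab hu hun.2⟩,
    MulAut.congr (F.isoOf hφ hr) α, opAut_map hφ hr ⟨α, hα, rfl⟩, fun y => ?_⟩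
  obtain ⟨x, rfl⟩ := (F.isoOf hφ hr).surjective y
  show ((F.isoOf hφ hr) (α ((F.isoOf hφ hr).symm (F.isoOf hφ hr x))) : Ω) = _
  rw [MulEquiv.symm_apply_apply, coe_isoOf, coe_isoOf, hφe, hφe, he]
  exact h.apply_conj hu (haK x.2)

theorem le_nOp [Fact p.Prime] [Finite S] (hS : IsPGroup p S) {a : Subgroup Ω} (ha : a ≤ S) : a ≤ nOp F p a := by
  intro g hg
  have hle : Inn a ≤ F.autGroup a := inn_le_autGroup ha
  haveI : ((Inn a).subgroupOf (F.autGroup a)).Normal := by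
    refine ⟨?_⟩
    rintro ⟨x, hx⟩ ⟨k, hk⟩ ⟨β, -⟩
    refine ⟨β k, ?_⟩
    show MulAut.conj (β k) = β * x * β⁻¹
    have hk' : MulAut.conj k = x := hk
    rw [← hk']
    ext y
    simp
  have hp : IsPGroup p ((Inn a).subgroupOf (F.autGroup a)) := by
    refine IsPGroup.of_equiv ?_ (Subgroup.subgroupOfEquivOfLe hle).symm
    rw [inn_eq_autInducedBy]
    exact isPGroup_autInducedBy (hS.to_le ha)
  have hmem : MulAut.conj (⟨g, hg⟩ : a) ∈ Inn a := ⟨⟨g, hg⟩, rfl⟩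
  exact ⟨le_normalizerIn ha hg, MulAut.conj ⟨g, hg⟩,
    ⟨⟨_, hle hmem⟩, CfsgLib.le_pCore hp (Subgroup.mem_subgroupOf.mpr hmem), rfl⟩, fun x => rfl⟩

/-- A normal `p`-subgroup lies in a subgroup of index prime to `p`. -/
theorem normal_le_of_not_dvd {G : Type u} [Group G] [Finite G] [Fact p.Prime] {N W : Subgroup G} [N.Normal]
    (hN : IsPGroup p N) (hW : IsPGroup p W) (hi : ¬ p ∣ W.index) : N ≤ W := by
  have hp : IsPGroup p (W ⊔ N : Subgroup G) := hW.to_sup_of_normal_right hN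
  obtain ⟨k, hk⟩ := hp.exists_card_eq
  have h1 : W.relIndex (W ⊔ N) ∣ p ^ k := hk ▸ Subgroup.index_dvd_card _
  have h2 : W.relIndex (W ⊔ N) ∣ W.index := ⟨_, (Subgroup.relIndex_mul_index (le_sup_left : W ≤ W ⊔ N)).symm⟩
  obtain ⟨j, -, hj⟩ := (Nat.dvd_prime_pow (Fact.out : p.Prime)).mp h1
  rcases Nat.eq_zero_or_pos j with rfl | hj0
  · exact le_sup_right.trans (Subgroup.relIndex_eq_one.mp (by rw [hj, pow_zero]))
  · exact absurd ((hj ▸ dvd_pow_self p hj0.ne').trans h2) hi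

/-- A `p`-subgroup can be conjugated into one of index prime to `p`. -/
theorem exists_conj_le {G : Type u} [Group G] [Finite G] [Fact p.Prime] {X W : Subgroup G}
    (hX : IsPGroup p X) (hW : IsPGroup p W) (hi : ¬ p ∣ W.index) : ∃ w : G, ∀ x ∈ X, w * x * w⁻¹ ∈ W := by
  exact exists_conj_mem_sylow (hW.toSylow hi) hX

theorem wGroup_le_sGroup {R c : Subgroup Ω} (hR : R ≤ S) : wGroup S R c ≤ sGroup F R c :=
  inf_le_inf_right _ (autInducedBy_le_autGroup hR)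

/-- Some point of each orbit of the automizer has its stabiliser fully automised. -/
theorem exists_sylow_point [Fact p.Prime] [Finite S] (hS : IsPGroup p S) {R x : Subgroup Ω}
    (hR : F.IsFullyAutomized p R) (hx : x ≤ R) :
    ∃ (δ : Ω → Ω) (c : Subgroup Ω), F.IsIso R R δ ∧ Img δ x c ∧ c ≤ R ∧
      ¬ p ∣ (wGroup S R c).relIndex (sGroup F R c) := by
  obtain ⟨hRS, T, hT⟩ := hR
  haveI := finite_of_le hRS
  haveI := finite_autGroup (F := F) hRS
  let W₀ : Sylow p (sGroup F R x) := Classical.arbitrary _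
  have hSA : sGroup F R x ≤ F.autGroup R := inf_le_left
  let X : Subgroup (F.autGroup R) := ((W₀ : Subgroup (sGroup F R x)).map (Subgroup.inclusion hSA))
  obtain ⟨⟨a, haA⟩, ha⟩ := exists_conj_mem_sylow T (W₀.2.map _ : IsPGroup p X)
  obtain ⟨δ, hδ, hδe⟩ := isIso_of_aut hRS haA
  obtain ⟨c, hc, hcR, -⟩ := exists_img hδ hx
  refine ⟨δ, c, hδ, hc, hcR, ?_⟩
  set cj := (MulAut.conj (a : MulAut R)).toMonoidHom
  have hst : ∀ α : MulAut R, α ∈ stabIn R x → cj α ∈ stabIn R c := by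
    intro α hα y
    obtain ⟨z, rfl⟩ := a.surjective y
    show ((a (α (a⁻¹ (a z))) : R) : Ω) ∈ c ↔ ((a z : R) : Ω) ∈ c
    rw [MulAut.inv_apply_self]
    have key : ∀ w : R, ((a w : R) : Ω) ∈ c ↔ (w : Ω) ∈ x := by
      intro w
      rw [hδe w]
      constructor
      · intro h
        obtain ⟨v, hv, e⟩ := (hc _).mp h
        rwa [← hδ.inj (hx hv) w.2 e]
      · exact hc.mem
    rw [key, key]
    exact hα z
  have hst' : ∀ α : MulAut R, α ∈ stabIn R c → cj⁻¹' {α} ⊆ stabIn R x := by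
    intro α hα β hβ y
    have hβ' : cj β = α := hβ
    have h := hα (a y)
    rw [← hβ'] at h
    have h' : ((a (β (a⁻¹ (a y))) : R) : Ω) ∈ c ↔ ((a y : R) : Ω) ∈ c := h
    rw [MulAut.inv_apply_self] at h'
    have key : ∀ w : R, ((a w : R) : Ω) ∈ c ↔ (w : Ω) ∈ x := by
      intro w
      rw [hδe w]
      constructor
      · intro h
        obtain ⟨v, hv, e⟩ := (hc _).mp h
        rwa [← hδ.inj (hx hv) w.2 e]
      · exact hc.mem
    rwa [key, key] at h'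
  have hmapS : (sGroup F R x).map cj = sGroup F R c := by
    refine le_antisymm ?_ fun α hα => ?_
    · rintro _ ⟨α, hα, rfl⟩
      obtain ⟨hα1, hα2⟩ := Subgroup.mem_inf.mp hα
      exact Subgroup.mem_inf.mpr ⟨mul_mem (mul_mem haA hα1) (InvMemClass.inv_mem haA), hst α hα2⟩
    · obtain ⟨hα1, hα2⟩ := Subgroup.mem_inf.mp hα
      have e : cj (a⁻¹ * α * a) = α := by
        show a * (a⁻¹ * α * a) * a⁻¹ = α
        group
      exact ⟨a⁻¹ * α * a, Subgroup.mem_inf.mpr ⟨mul_mem (mul_mem (InvMemClass.inv_mem haA) hα1) haA,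
        hst' α hα2 e⟩, e⟩
  let W₁ : Subgroup (MulAut R) := (W₀ : Subgroup (sGroup F R x)).map (sGroup F R x).subtype
  have hW₁ : W₁.map cj ≤ wGroup S R c := by
    rintro _ ⟨_, ⟨w, hw, rfl⟩, rfl⟩
    refine Subgroup.mem_inf.mpr ⟨?_, hst _ (Subgroup.mem_inf.mp w.2).2⟩
    have h := ha _ ⟨w, hw, rfl⟩
    rw [hT] at h
    exact Subgroup.mem_subgroupOf.mp h
  intro hdvd
  refine W₀.not_dvd_index ?_
  have h1 := Subgroup.relIndex_map_map_of_injective W₁ (sGroup F R x) (f := cj) (MulAut.conj (a : MulAut R)).injective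
  rw [hmapS] at h1
  have h2 : (W₁.map cj).relIndex (sGroup F R c) = (W₀ : Subgroup (sGroup F R x)).index := by
    rw [h1, Subgroup.relIndex, Subgroup.subgroupOf, Subgroup.comap_map_eq_self_of_injective (Subgroup.subtype_injective _)]
  rw [← h2]
  exact hdvd.trans (Subgroup.relIndex_dvd_of_le_left _ hW₁)

/-- The core extension lemma. -/
theorem exists_extension [Fact p.Prime] [Finite S] (hS : IsPGroup p S) {V R x c U : Subgroup Ω} {β : Ω → Ω}
    (hR : F.IsReceptive R) (hβ : F.IsIso V R β) (hxV : x ≤ V) (hxc : Img β x c)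
    (hW : ¬ p ∣ (wGroup S R c).relIndex (sGroup F R c))
    (H : Subgroup (MulAut R)) (hHS : H ≤ sGroup F R c) (hWH : wGroup S R c ≤ H)
    (hVU : V ≤ U) (hUV : U ≤ normalizerIn S V) (hUx : U ≤ Subgroup.normalizer (x : Set Ω))
    (hU : ∀ u ∈ U, ∀ α ∈ sGroup F R c,
      (∀ (v : Ω) (hv : v ∈ V), ((α ⟨β v, hβ.mem hv⟩ : R) : Ω) = β (u * v * u⁻¹)) → α ∈ H) :
    ∃ w ∈ H, ∃ g U', F.IsIso U U' g ∧ U' ≤ normalizerIn S R ∧ U' ≤ Subgroup.normalizer (c : Set Ω) ∧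
      Img g V R ∧ Img g x c ∧ R ≤ U' ∧
        ∀ (v : Ω) (hv : v ∈ V), g v = ((w ⟨β v, hβ.mem hv⟩ : R) : Ω) := by
  have hRS := hR.1
  have hVS := hβ.le_left
  haveI := finite_of_le hRS
  haveI := finite_of_le (hUV.trans normalizerIn_le)
  haveI := finite_mulAut_of_le hRS
  obtain ⟨φ, hφ, hr, hφe⟩ := id hβ
  let e : V ≃* R := F.isoOf hφ hr
  have he : ∀ v : V, ((e v : R) : Ω) = β v := fun v => hφe v
  let Ψ : U →* MulAut R := ((MulAut.congr e).toMonoidHom.comp V.normalizerMonoidHom).comp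
    (Subgroup.inclusion (hUV.trans inf_le_right : U ≤ Subgroup.normalizer (V : Set Ω)))
  have hΨ : ∀ (u : U) (v : V), ((Ψ u (e v) : R) : Ω) = β ((u : Ω) * v * (u : Ω)⁻¹) := by
    intro u v
    show ((e (V.normalizerMonoidHom _ (e.symm (e v))) : R) : Ω) = _
    rw [MulEquiv.symm_apply_apply, he]
    rfl
  have hΨH : ∀ u : U, Ψ u ∈ H := by
    intro u
    refine hU u u.2 _ (Subgroup.mem_inf.mpr ⟨?_, ?_⟩) fun v hv => ?_
    · rw [← F.autGroup_map_congr hφ hr]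
      refine ⟨_, autInducedBy_le_autGroup hVS (mem_autInducedBy_iff.mpr ⟨(u : Ω), (hUV u.2).1,
        (hUV u.2).2, fun v => rfl⟩ : (V.normalizerMonoidHom ⟨u, (hUV u.2).2⟩) ∈ autInducedBy S V), rfl⟩
    · intro y
      obtain ⟨v, rfl⟩ := e.surjective y
      rw [hΨ, he]
      have key : ∀ z ∈ V, β z ∈ c ↔ z ∈ x := by
        intro z hz
        constructor
        · intro h
          obtain ⟨w, hw, ew⟩ := (hxc _).mp h
          rwa [← hβ.inj (hxV hw) hz ew]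
        · exact hxc.mem
      rw [key _ ((Subgroup.mem_normalizer_iff.mp (hUV u.2).2 _).mp v.2), key _ v.2]
      exact (Subgroup.mem_normalizer_iff.mp (hUx u.2) v).symm
    · have h := hΨ u ⟨v, hv⟩
      have e1 : e ⟨v, hv⟩ = ⟨β v, hβ.mem hv⟩ := Subtype.ext (he _)
      rwa [e1] at h
  let Ψ' : U →* H := Ψ.codRestrict H hΨH
  have hUp : IsPGroup p U := hS.to_le (hUV.trans normalizerIn_le)
  have hWp : IsPGroup p ((wGroup S R c).subgroupOf H) :=
    (((isPGroup_autInducedBy hS).to_le inf_le_left : IsPGroup p (wGroup S R c))).of_equiv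
      (Subgroup.subgroupOfEquivOfLe hWH).symm
  have hWi : ¬ p ∣ ((wGroup S R c).subgroupOf H).index := fun h => hW <| by
    rw [← Subgroup.relIndex_mul_relIndex _ _ _ hWH hHS]
    exact dvd_mul_of_dvd_left h _
  obtain ⟨⟨w, hw⟩, hwc⟩ := exists_conj_le (hUp.of_surjective Ψ'.rangeRestrict Ψ'.rangeRestrict_surjective) hWp hWi
  refine ⟨w, hw, ?_⟩
  obtain ⟨ω, hω, hωe⟩ := isIso_of_aut hRS (Subgroup.mem_inf.mp (hHS hw)).1
  have hh : F.IsIso V R (fun v => ω (β v)) := hβ.comp hω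
  have hhv : ∀ v : V, ω (β v) = ((w (e v) : R) : Ω) := fun v => by rw [hωe, he]
  obtain ⟨g, U', hg, hge⟩ := hR.extend hh (hUV.trans normalizerIn_le) hVU (hUV.trans inf_le_right) (by
    intro u hu
    have h1 := hwc (Ψ' ⟨u, hu⟩) ⟨⟨u, hu⟩, rfl⟩
    obtain ⟨k, hk, -, hke⟩ := mem_autInducedBy_iff.mp (Subgroup.mem_inf.mp (Subgroup.mem_subgroupOf.mp h1)).1
    refine ⟨k, hk, fun v hv => ?_⟩
    have hcv : u * v * u⁻¹ ∈ V := (Subgroup.mem_normalizer_iff.mp (hUV hu).2 v).mp hv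
    have h2 := hke (w (e ⟨v, hv⟩))
    have h3 : ((((⟨w, hw⟩ : H) * Ψ' ⟨u, hu⟩ * (⟨w, hw⟩ : H)⁻¹ : H) : MulAut R) (w (e ⟨v, hv⟩))) =
        w (Ψ ⟨u, hu⟩ (e ⟨v, hv⟩)) := by
      show w (Ψ ⟨u, hu⟩ (w⁻¹ (w (e ⟨v, hv⟩)))) = _
      rw [MulAut.inv_apply_self]
    rw [h3] at h2
    rw [show ω (β (u * v * u⁻¹)) = ((w (Ψ ⟨u, hu⟩ (e ⟨v, hv⟩)) : R) : Ω) by rw [hωe, hΨ], hhv ⟨v, hv⟩]
    exact h2)
  have hgV : Img g V R := (img_of_isIso hh).congr hge
  have hgx : Img g x c := by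
    refine Img.congr ?_ fun z hz => hge z (hxV hz)
    have h : Img ω c c := by
      intro y
      constructor
      · intro hy
        have hyR : y ∈ R := by
          obtain ⟨z, hz, rfl⟩ := (hxc y).mp hy
          exact hβ.mem (hxV hz)
        refine ⟨((w⁻¹ ⟨y, hyR⟩ : R) : Ω), ?_, ?_⟩
        · exact ((stabIn R c).inv_mem (Subgroup.mem_inf.mp (hHS hw)).2 ⟨y, hyR⟩).mpr hy
        · rw [← hωe, MulAut.apply_inv_self]
      · rintro ⟨z, hz, rfl⟩
        obtain ⟨t, ht, rfl⟩ := (hxc z).mp hz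
        rw [← hωe ⟨β t, hβ.mem (hxV ht)⟩]
        exact ((Subgroup.mem_inf.mp (hHS hw)).2 _).mpr hz
    exact hxc.comp h
  refine ⟨g, U', hg, ?_, ?_, hgV, hgx, hgV.mono (img_of_isIso hg) hVU, fun v hv => ?_⟩
  · intro y hy
    obtain ⟨u, hu, rfl⟩ := hg.surj hy
    exact ⟨hg.le_right hy, hg.mem_normalizer hVU hgV hu (hUV hu).2⟩
  · intro y hy
    obtain ⟨u, hu, rfl⟩ := hg.surj hy
    exact hg.mem_normalizer (hxV.trans hVU) hgx hu (hUx hu)
  · rw [hge v hv, hhv ⟨v, hv⟩]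
    congr 2
    exact Subtype.ext (he _)

/-- Free version: some extension carrying `x` to `c`. -/
theorem exists_extension_free [Fact p.Prime] [Finite S] (hS : IsPGroup p S) {V R x c U : Subgroup Ω} {β : Ω → Ω}
    (hR : F.IsReceptive R) (hβ : F.IsIso V R β) (hxV : x ≤ V) (hxc : Img β x c)
    (hW : ¬ p ∣ (wGroup S R c).relIndex (sGroup F R c))
    (hVU : V ≤ U) (hUV : U ≤ normalizerIn S V) (hUx : U ≤ Subgroup.normalizer (x : Set Ω)) :
    ∃ g U', F.IsIso U U' g ∧ U' ≤ normalizerIn S R ∧ U' ≤ Subgroup.normalizer (c : Set Ω) ∧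
      Img g V R ∧ Img g x c ∧ R ≤ U' := by
  obtain ⟨w, -, g, U', h1, h2, h3, h4, h5, h6, -⟩ := exists_extension hS hR hβ hxV hxc hW _ le_rfl
    (wGroup_le_sGroup hR.1) hVU hUV hUx fun _ _ _ hα _ => hα
  exact ⟨g, U', h1, h2, h3, h4, h5, h6⟩

/-- The automorphisms of `R` acting on `c` as elements of `S`. -/
def innerOn (F : FusionSystem S) (R c : Subgroup Ω) : Subgroup (MulAut R) where
  carrier := {α | α ∈ sGroup F R c ∧ ∃ s, s ∈ normalizerIn S R ∧ s ∈ normalizerIn S c ∧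
    ∀ y : R, (y : Ω) ∈ c → ((α y : R) : Ω) = s * y * s⁻¹}
  one_mem' := ⟨one_mem _, 1, one_mem _, one_mem _, fun y _ => by simp⟩
  mul_mem' := by
    rintro a b ⟨ha, s, hs, hs', he⟩ ⟨hb, t, ht, ht', he'⟩
    refine ⟨mul_mem ha hb, s * t, mul_mem hs ht, mul_mem hs' ht', fun y hy => ?_⟩
    rw [MulAut.mul_apply, he _ (((Subgroup.mem_inf.mp hb).2 y).mpr hy), he' y hy]
    group
  inv_mem' := by
    rintro a ⟨ha, s, hs, hs', he⟩
    refine ⟨InvMemClass.inv_mem ha, s⁻¹, InvMemClass.inv_mem hs, InvMemClass.inv_mem hs', fun y hy => ?_⟩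
    have h := he (a⁻¹ y) (((stabIn R c).inv_mem (Subgroup.mem_inf.mp ha).2 y).mpr hy)
    rw [MulAut.apply_inv_self] at h
    rw [h]
    group

/-- Exact version: the extension agrees with `β` on `x`. -/
theorem exists_extension_exact [Fact p.Prime] [Finite S] (hS : IsPGroup p S) {V R x c U : Subgroup Ω} {β : Ω → Ω}
    (hR : F.IsReceptive R) (hβ : F.IsIso V R β) (hxV : x ≤ V) (hxc : Img β x c)
    (hW : ¬ p ∣ (wGroup S R c).relIndex (sGroup F R c))
    (hVU : V ≤ U) (hUV : U ≤ normalizerIn S V) (hUx : U ≤ Subgroup.normalizer (x : Set Ω))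
    (hU : ∀ u ∈ U, ∃ s, s ∈ normalizerIn S R ∧ s ∈ normalizerIn S c ∧
      ∀ z ∈ x, β (u * z * u⁻¹) = s * β z * s⁻¹) :
    ∃ g U', F.IsIso U U' g ∧ U' ≤ normalizerIn S R ∧ U' ≤ Subgroup.normalizer (c : Set Ω) ∧
      Img g V R ∧ Img g x c ∧ R ≤ U' ∧ ∀ z ∈ x, g z = β z := by
  obtain ⟨w, ⟨-, s, hs, hs', hse⟩, g, U', h1, h2, h3, h4, h5, h6, h7⟩ :=
    exists_extension hS hR hβ hxV hxc hW (innerOn F R c) (fun α hα => hα.1) (fun α hα => by
      refine ⟨wGroup_le_sGroup hR.1 hα, ?_⟩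
      obtain ⟨s, hs, hsn, hse⟩ := mem_autInducedBy_iff.mp (Subgroup.mem_inf.mp hα).1
      refine ⟨s, ⟨hs, hsn⟩, ⟨hs, ?_⟩, fun y _ => hse y⟩
      have hcR : c ≤ R := by
        intro y hy
        obtain ⟨z, hz, rfl⟩ := (hxc y).mp hy
        exact hβ.mem (hxV hz)
      haveI := finite_of_le (hcR.trans hR.1)
      refine Subgroup.mem_normalizer_fintype fun y hy => ?_
      have := ((Subgroup.mem_inf.mp hα).2 ⟨y, hcR hy⟩).mpr hy
      rwa [hse] at this) hVU hUV hUx (by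
      intro u hu α hα hαe
      obtain ⟨s, hs, hs', hse⟩ := hU u hu
      refine ⟨hα, s, hs, hs', fun y hy => ?_⟩
      obtain ⟨z, hz, ez⟩ := (hxc _).mp hy
      have e1 : y = ⟨β z, hβ.mem (hxV hz)⟩ := Subtype.ext ez.symm
      rw [e1, hαe z (hxV hz), hse z hz])
  -- undo the correction by an inner map
  have hU'S : U' ≤ S := h1.le_right
  have hU's : ∀ {A : Subgroup Ω}, s ∈ Subgroup.normalizer (A : Set Ω) → ∀ {f : Ω → Ω} {B : Subgroup Ω},
      Img f B A → Img (fun z => s⁻¹ * f z * s⁻¹⁻¹) B A := by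
    intro A hA f B hf y
    constructor
    · intro hy
      obtain ⟨z, hz, e⟩ := (hf _).mp ((Subgroup.mem_normalizer_iff.mp hA y).mp hy)
      exact ⟨z, hz, by show s⁻¹ * f z * s⁻¹⁻¹ = y; rw [e]; group⟩
    · rintro ⟨z, hz, rfl⟩
      have hs1 := (Subgroup.mem_normalizer_iff''.mp hA (f z)).mp (hf.mem hz)
      simpa using hs1
  have hiso := h1.comp (isIso_conj hU'S (InvMemClass.inv_mem hs.1))
  refine ⟨_, _, hiso, ?_, ?_, hU's hs.2 h4, hU's hs'.2 h5, ?_, fun z hz => ?_⟩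
  · rintro _ ⟨y, hy, rfl⟩
    exact mul_mem (mul_mem (InvMemClass.inv_mem hs) (h2 hy)) (InvMemClass.inv_mem (InvMemClass.inv_mem hs))
  · rintro _ ⟨y, hy, rfl⟩
    exact mul_mem (mul_mem (InvMemClass.inv_mem hs'.2) (h3 hy)) (InvMemClass.inv_mem (InvMemClass.inv_mem hs'.2))
  · intro y hy
    refine ⟨s * y * s⁻¹, h6 ((Subgroup.mem_normalizer_iff.mp hs.2 y).mp hy), ?_⟩
    show s⁻¹ * (s * y * s⁻¹) * s⁻¹⁻¹ = y
    group
  · show s⁻¹ * g z * s⁻¹⁻¹ = β z
    rw [h7 z (hxV hz), hse ⟨β z, hβ.mem (hxV hz)⟩ (hxc.mem hz)]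
    group

end Cfsg.FusionSystem.Family
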